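import Groth.Agent.Lib.QcohEt15.Pull.Univ
import Groth.Agent.Lib.QcohEt15.LocColim

/-!
# The inverse image: mapping property
-/

universe u v

set_option backward.isDefEq.respectTransparency false

open CategoryTheory CategoryTheory.Limits AlgebraicGeometry Opposite TensorProduct

namespace Groth.Agent.QcohEt15.Pull

open AlgSp

variable {S : Scheme.{u}} {X : Sp S} {Y : Space S} {f : X ⟶ Y.obj} (hf : Representable f) {G : ModEt Y.obj}
  {N : ModEt X} (ψ : G ⟶ (pushModEt hf).obj N)

theorem ap_lkOf {W : EtOver X} {E : EtOver Y.obj} (b : W ⟶ EtOver.bcObj hf E) (r : Γo E) :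
    ap (lkOf hf b) r = γ b (bγ hf E r) := by
  change (b.hom.left.left ≫ (EtOver.bcπ hf E).left).appTop.hom r = _
  rw [Scheme.Hom.comp_appTop]
  rfl

theorem ap_bcLift {W : EtOver X} {E : EtOver Y.obj} (φ : Lk f W E) (r : Γo E) :
    γ (bcLift hf φ) (bγ hf E r) = ap φ r := by
  rw [← ap_lkOf, lkOf_bcLift]

/-- `c ⊗ g ↦ c • ψ(g)`. -/
noncomputable def liftQ {W : EtOver X} {E : EtOver Y.obj} (φ : Lk f W E) : Ten G φ →+ sectModEt N W :=
  TensorProduct.liftAddHom
    { toFun := fun c =>
        { toFun := fun g => TwP.out c • res N (bcLift hf φ) (pushOut hf (appₗ ψ E g))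
          map_zero' := by
            rw [map_zero]
            change TwP.out c • res N (bcLift hf φ) 0 = 0
            rw [map_zero, smul_zero]
          map_add' := fun g g' => by
            rw [map_add]
            change TwP.out c • res N (bcLift hf φ) (pushOut hf (appₗ ψ E g) + pushOut hf (appₗ ψ E g')) = _
            rw [map_add, smul_add] }
      map_zero' := AddMonoidHom.ext fun g => zero_smul (Γo W) _
      map_add' := fun a b => AddMonoidHom.ext fun g => add_smul (TwP.out a) (TwP.out b) _ }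
    fun r c g => by
      change (ap φ r * TwP.out c) • res N (bcLift hf φ) (pushOut hf (appₗ ψ E g)) =
        TwP.out c • res N (bcLift hf φ) (pushOut hf (appₗ ψ E (r • g)))
      rw [map_smul, pushOut_smul, res_smul, ap_bcLift, smul_smul, mul_comm]

theorem liftQ_tmul {W : EtOver X} {E : EtOver Y.obj} (φ : Lk f W E) (c : TwP φ) (g : sectModEt G E) :
    liftQ hf ψ φ (c ⊗ₜ g) = TwP.out c • res N (bcLift hf φ) (pushOut hf (appₗ ψ E g)) := rfl

theorem liftQ_smul {W : EtOver X} {E : EtOver Y.obj} (φ : Lk f W E) (a : Γo W) (x : Ten G φ) :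
    liftQ hf ψ φ (a • x) = a • liftQ hf ψ φ x := by
  induction x using TensorProduct.induction_on with
  | zero => simp
  | tmul c g =>
    rw [TensorProduct.smul_tmul', liftQ_tmul, liftQ_tmul]
    exact mul_smul a (TwP.out c) _
  | add x y hx hy => simp only [smul_add, map_add, hx, hy]

theorem liftQ_resT {W W' : EtOver X} {E : EtOver Y.obj} (k : W' ⟶ W) {φ : Lk f W E} {φ' : Lk f W' E}
    (e : φ.pre k = φ') (x : Ten G φ) : liftQ hf ψ φ' (resT k e x) = res N k (liftQ hf ψ φ x) := by
  induction x using TensorProduct.induction_on with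
  | zero => simp
  | tmul c g =>
    have hb : bcLift hf φ' = k ≫ bcLift hf φ := bc_hom_ext hf (by rw [lkOf_bcLift, lkOf_comp, lkOf_bcLift, e])
    rw [resT_tmul, liftQ_tmul, liftQ_tmul, res_smul, hb, res_comp]
    rfl
  | add x y hx hy => simp only [map_add, hx, hy]

theorem liftQ_chT {W : EtOver X} {E E' : EtOver Y.obj} (h : E' ⟶ E) {φ : Lk f W E} {φ' : Lk f W E'}
    (e : φ'.post h = φ) (x : Ten G φ) : liftQ hf ψ φ' (chT h e x) = liftQ hf ψ φ x := by
  induction x using TensorProduct.induction_on with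
  | zero => simp
  | tmul c g =>
    have hb : bcLift hf φ = bcLift hf φ' ≫ EtOver.bcMap hf h :=
      bc_hom_ext hf (by rw [lkOf_bcLift, lkOf_bcMap, lkOf_bcLift, e])
    rw [chT_tmul, liftQ_tmul, liftQ_tmul, appₗ_res, pushOut_res, hb, res_comp]
    rfl
  | add x y hx hy => simp only [map_add, hx, hy]

theorem liftQ_rel {W : EtOver X} {E E' : EtOver Y.obj} {φ : Lk f W E} {φ' : Lk f W E'} {x : Ten G φ}
    {x' : Ten G φ'} (h : Rel φ φ' x x') : liftQ hf ψ φ x = liftQ hf ψ φ' x' := by
  choose Z hZ l V hV χ p q hw ep eq using fun w : ↥W.obj.left.left => exists_link φ φ' w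
  refine sections_ext_family N Z l (fun w => ⟨w, hw w⟩) fun w => ?_
  rw [← liftQ_resT hf ψ (l w) rfl, ← liftQ_resT hf ψ (l w) rfl, ← liftQ_chT hf ψ (p w) (ep w),
    ← liftQ_chT hf ψ (q w) (eq w), h (Z w) (hZ w) (l w) (V w) (hV w) (χ w) (p w) (q w) (ep w) (eq w)]

variable (hG : ∀ (V : EtOver Y.obj) [IsAffine V.obj.left.left], Good G V)

/-- The value of the induced morphism is characterised by its restrictions. -/
def IsVal {Z : EtOver X} (s : Sect f G Z) (n : sectModEt N Z) : Prop :=
  ∀ (T : EtOver X) [IsAffine T.obj.left.left] (a : T ⟶ Z) (E : EtOver Y.obj) [IsAffine E.obj.left.left]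
    (φ : Lk f T E), res N a n = liftQ hf ψ φ (s.val' T a E φ)

include hf in
theorem exists_test (Z : EtOver X) (v : ↥Z.obj.left.left) :
    ∃ (W : EtOver X) (_ : IsAffine W.obj.left.left) (k : W ⟶ Z) (E : EtOver Y.obj) (_ : IsAffine E.obj.left.left)
      (_ : Lk f W E), v ∈ Set.range k.hom.left.left := by
  obtain ⟨E, hE, W, hW, k, b, hk⟩ := exists_affine_over_bc hf Z v
  exact ⟨W, hW, k, E, hE, lkOf hf b, hk⟩

omit hG in
theorem sections_ext_test {Z : EtOver X} {p q : sectModEt N Z} (hf : Representable f)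
    (h : ∀ (T : EtOver X) [IsAffine T.obj.left.left] (a : T ⟶ Z) (E : EtOver Y.obj) [IsAffine E.obj.left.left]
      (_ : Lk f T E), res N a p = res N a q) : p = q := by
  choose W hW k E hE φ hk using exists_test hf Z
  refine sections_ext_family N W k (fun v => ⟨v, hk v⟩) fun v => ?_
  have := hW v
  have := hE v
  exact h (W v) (k v) (E v) (φ v)

include hG in
theorem exists_isVal {Z : EtOver X} (s : Sect f G Z) : ∃ n, IsVal hf ψ s n := by
  choose W hW k E hE φ hk using exists_test hf Z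
  have key : ∀ (T : EtOver X) [IsAffine T.obj.left.left] (a : T ⟶ Z) (E₁ E₂ : EtOver Y.obj)
      [IsAffine E₁.obj.left.left] [IsAffine E₂.obj.left.left] (φ₁ : Lk f T E₁) (φ₂ : Lk f T E₂),
      liftQ hf ψ φ₁ (s.val' T a E₁ φ₁) = liftQ hf ψ φ₂ (s.val' T a E₂ φ₂) := by
    intro T _ a E₁ E₂ _ _ φ₁ φ₂
    have h : Rel _ φ₂ (resT (𝟙 T) rfl (s.val' T a E₁ φ₁)) (s.val' T (𝟙 T ≫ a) E₂ φ₂) :=
      s.2 T T inferInstance inferInstance a (𝟙 T) E₁ E₂ inferInstance inferInstance φ₁ φ₂
    rw [Category.id_comp] at h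
    rw [← liftQ_rel hf ψ h, liftQ_resT, res_id]
  have step : ∀ (i : ↥Z.obj.left.left) (T : EtOver X) [IsAffine T.obj.left.left] (a : T ⟶ W i) (c : T ⟶ Z)
      (_ : a ≫ k i = c) (E' : EtOver Y.obj) [IsAffine E'.obj.left.left] (φ' : Lk f T E'),
      res N a (liftQ hf ψ (φ i) (@Sect.val' _ _ _ f G Z s (W i) (hW i) (k i) (E i) (hE i) (φ i))) =
        liftQ hf ψ φ' (s.val' T c E' φ') := by
    intro i T _ a c hc E' _ φ'
    have := hW i
    have := hE i
    rw [← liftQ_resT hf ψ a rfl, val'_res_self hG s (k i) a (φ i) rfl hc, key T c (E i) E' _ φ']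
  obtain ⟨n, hn⟩ := exists_glue_family N (fun v : ULift.{u + 1} ↥Z.obj.left.left => W v.down) (fun v => k v.down)
    (fun v => ⟨⟨v⟩, hk v⟩) (fun v => liftQ hf ψ (φ v.down)
      (@Sect.val' _ _ _ f G Z s (W v.down) (hW v.down) (k v.down) (E v.down) (hE v.down) (φ v.down))) (by
    intro i j T a b hab
    refine sections_ext_test hf fun T' _ l E' _ φ' => ?_
    rw [← res_comp, ← res_comp, step i.down T' (l ≫ a) _ rfl E' φ',
      step j.down T' (l ≫ b) ((l ≫ a) ≫ k i.down) (by rw [Category.assoc, Category.assoc, hab]) E' φ'])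
  refine ⟨n, fun T _ a E' _ φ' => ?_⟩
  refine sections_ext_test hf fun T' _ l E'' _ φ'' => ?_
  have hT : res N l (liftQ hf ψ φ' (s.val' T a E' φ')) = liftQ hf ψ φ'' (s.val' T' (l ≫ a) E'' φ'') := by
    rw [← liftQ_resT hf ψ l rfl, val'_res_self hG s a l φ' rfl rfl, key T' (l ≫ a) E' E'' _ φ'']
  rw [hT, ← res_comp]
  have hpt : ∀ v : ↥T'.obj.left.left, ∃ (U : EtOver X) (_ : IsAffine U.obj.left.left) (i : ↥Z.obj.left.left)
      (m : U ⟶ T') (c : U ⟶ W i), v ∈ Set.range m.hom.left.left ∧ c ≫ k i = m ≫ l ≫ a := by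
    intro v
    obtain ⟨w, hw⟩ := hk ((l ≫ a).hom.left.left v)
    let Q := EtOver.pullbackObj (l ≫ a) (k ((l ≫ a).hom.left.left v))
    obtain ⟨t, ht, -⟩ := Scheme.exists_preimage_of_isPullback
      ((IsPullback.of_hasPullback (l ≫ a).hom.left (k ((l ≫ a).hom.left.left v)).hom.left).map (Over.forget S)) v w
      hw.symm
    obtain ⟨V, hV, htV, -⟩ := Q.obj.left.left.isBasis_affineOpens.exists_subset_of_mem_open (Set.mem_univ t) isOpen_univ
    obtain ⟨V, hV', rfl⟩ := hV
    obtain ⟨v', hv'⟩ := (AlgSpEt14.range_openSubι Q V).ge htV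
    refine ⟨AlgSpEt14.openSub Q V, hV', _, AlgSpEt14.openSubι Q V ≫ EtOver.pullbackFst _ _,
      AlgSpEt14.openSubι Q V ≫ EtOver.pullbackSnd _ _, ⟨v', ?_⟩, ?_⟩
    · change (EtOver.pullbackFst _ _).hom.left.left ((AlgSpEt14.openSubι Q V).hom.left.left v') = v
      rw [hv']
      exact ht
    · rw [Category.assoc, Category.assoc, EtOver.pullback_condition]
  choose U hU i m c hm hc using hpt
  refine sections_ext_family N U m (fun v => ⟨v, hm v⟩) fun v => ?_
  have := hU v
  have h1 := congrArg (res N (c v)) (hn ⟨i v⟩)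
  rw [← res_comp, hc v, step (i v) (U v) (c v) _ (hc v) E'' (φ''.pre (m v))] at h1
  rw [← res_comp, h1, ← liftQ_resT hf ψ (m v) rfl, val'_res_self hG s (l ≫ a) (m v) φ'' rfl rfl]

include hG in
theorem IsVal.unique {Z : EtOver X} {s : Sect f G Z} {n n' : sectModEt N Z} (h : IsVal hf ψ s n)
    (h' : IsVal hf ψ s n') : n = n' :=
  sections_ext_test hf fun T _ a E _ φ => (h T a E φ).trans (h' T a E φ).symm

/-- The induced map on sections. -/
noncomputable def descVal {Z : EtOver X} (s : Sect f G Z) : sectModEt N Z := (exists_isVal hf ψ hG s).choose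

theorem descVal_spec {Z : EtOver X} (s : Sect f G Z) : IsVal hf ψ s (descVal hf ψ hG s) :=
  (exists_isVal hf ψ hG s).choose_spec

/-- The induced morphism. -/
noncomputable def descQ : pullQ f G hG ⟶ N :=
  ⟨PresheafOfModules.homMk
    { app := fun Z => AddCommGrpCat.ofHom (AddMonoidHom.mk' (fun s : Sect f G Z.unop => descVal hf ψ hG s)
        fun s t => IsVal.unique hf ψ hG (descVal_spec hf ψ hG _) fun T _ a E _ φ => by
          rw [map_add, descVal_spec hf ψ hG s T a E φ, descVal_spec hf ψ hG t T a E φ, ← map_add]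
          rfl)
      naturality := fun {Z Z'} g => AddCommGrpCat.hom_ext (AddMonoidHom.ext fun s =>
        IsVal.unique hf ψ hG (descVal_spec hf ψ hG _) fun T _ a E _ φ => by
          change res N a (res N g.unop (descVal hf ψ hG (show Sect f G Z.unop from s))) = _
          rw [← res_comp, descVal_spec hf ψ hG _ T (a ≫ g.unop) E φ]
          rfl) }
    fun Z r s => IsVal.unique hf ψ hG (descVal_spec hf ψ hG _) fun T _ a E _ φ => by
      change res N a ((ULift.down r : Γo Z.unop) • descVal hf ψ hG (show Sect f G Z.unop from s)) = _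
      rw [res_smul, descVal_spec hf ψ hG _ T a E φ, ← liftQ_smul]
      rfl⟩

theorem descQ_app {Z : EtOver X} (s : sectModEt (pullQ f G hG) Z) :
    appₗ (descQ hf ψ hG) Z s = descVal hf ψ hG (toSect hG s) := rfl

theorem unit_descQ : unitQ hf hG ≫ (pushModEt hf).map (descQ hf ψ hG) = ψ := by
  apply SheafOfModules.hom_ext
  apply PresheafOfModules.hom_ext
  intro E
  ext g
  change appₗ (descQ hf ψ hG) (EtOver.bcObj hf E.unop) (pushOut hf (appₗ (unitQ hf hG) E.unop g)) =
    pushOut hf (appₗ ψ E.unop g)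
  refine sections_ext_test hf fun T _ a E' _ φ' => ?_
  rw [descQ_app, unitQ_app, descVal_spec hf ψ hG _ T a E' φ']
  change liftQ hf ψ φ' ((unitFam hf hG g).val' T a E' φ') = _
  rw [← liftQ_rel hf ψ (unitFam_spec hf hG g T a E' φ'), liftQ_tmul,
    show bcLift hf (lkOf hf a) = a from bc_hom_ext hf (lkOf_bcLift hf _)]
  exact one_smul (Γo T) _

theorem evL_unit {W : EtOver X} [IsAffine W.obj.left.left] {E : EtOver Y.obj} [IsAffine E.obj.left.left]
    (φ : Lk f W E) (g : sectModEt G E) :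
    evL hG φ (res (pullQ f G hG) (bcLift hf φ) (ofSect hG (unitFam hf hG g))) = (1 : TwP φ) ⊗ₜ g := by
  have key : ∀ {χ : Lk f W E} (_ : χ = φ) (x : Ten G φ), Rel χ φ ((1 : TwP χ) ⊗ₜ g) x → x = (1 : TwP φ) ⊗ₜ g := by
    intro χ e x hx
    subst e
    exact (rel_eq hG hx).symm
  refine key (lkOf_bcLift hf φ) _ ?_
  have h := unitFam_spec hf hG g W (bcLift hf φ) E φ
  change Rel _ _ _ ((unitFam hf hG g).val' W (𝟙 W ≫ bcLift hf φ) E φ)
  rw [Category.id_comp]
  exact h

theorem descQ_unique (l : pullQ f G hG ⟶ N) (h : unitQ hf hG ≫ (pushModEt hf).map l = ψ) : l = descQ hf ψ hG := by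
  apply SheafOfModules.hom_ext
  apply PresheafOfModules.hom_ext
  intro Z
  ext s
  refine sections_ext_test hf fun T _ a E _ φ => ?_
  change res N a (appₗ l Z.unop s) = res N a (appₗ (descQ hf ψ hG) Z.unop s)
  rw [← appₗ_res, ← appₗ_res]
  obtain ⟨y, hy⟩ : ∃ y, evL hG φ (res (pullQ f G hG) a s) = y := ⟨_, rfl⟩
  have hd : ∀ (l' : pullQ f G hG ⟶ N), unitQ hf hG ≫ (pushModEt hf).map l' = ψ →
      ∀ (y : Ten G φ) (t : sectModEt (pullQ f G hG) T), evL hG φ t = y → appₗ l' T t = liftQ hf ψ φ y := by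
    intro l' hl' y
    induction y using TensorProduct.induction_on with
    | zero =>
      intro t ht
      rw [(evL_bijective hG φ).1 (ht.trans (map_zero _).symm), map_zero, map_zero]
    | tmul c g =>
      intro t ht
      have e : t = TwP.out c • res (pullQ f G hG) (bcLift hf φ) (ofSect hG (unitFam hf hG g)) :=
        (evL_bijective hG φ).1 (by
          rw [ht, map_smul, evL_unit, TensorProduct.smul_tmul']
          congr 1
          exact (mul_one (TwP.out c)).symm)
      rw [e, map_smul, appₗ_res, liftQ_tmul]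
      congr 2
      exact congrArg (fun q => pushOut hf (appₗ q E g)) hl'
    | add x x' hx hx' =>
      intro t ht
      obtain ⟨t₁, rfl⟩ := (evL_bijective hG φ).2 x
      obtain ⟨t₂, rfl⟩ := (evL_bijective hG φ).2 x'
      rw [(evL_bijective hG φ).1 (ht.trans (map_add _ _ _).symm), map_add, map_add, hx t₁ rfl, hx' t₂ rfl]
  rw [hd l h y _ hy, hd (descQ hf ψ hG) (unit_descQ hf ψ hG) y _ hy]

/-- The mapping property as a representation. -/
theorem existsUnique_descQ : ∃! l : pullQ f G hG ⟶ N, unitQ hf hG ≫ (pushModEt hf).map l = ψ :=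
  ⟨descQ hf ψ hG, unit_descQ hf ψ hG, fun l h => descQ_unique hf ψ hG l h⟩

end Groth.Agent.QcohEt15.Pull

namespace Groth.Agent.QcohEt15.Pull

open AlgSp

variable {S : Scheme.{u}} {X : Sp S} {Y : Space S} {f : X ⟶ Y.obj} (hf : Representable f) {G : ModEt Y.obj}
  [(SheafOfModules.pushforward.{u + 1} (bcRingHom hf)).IsRightAdjoint]

/-- The left adjoint of the direct image agrees with the explicit inverse image. -/
theorem nonempty_iso_pullModEt (hG : ∀ (V : EtOver Y.obj) [IsAffine V.obj.left.left], Good G V) :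
    Nonempty ((pullModEt hf).obj G ≅ pullQ f G hG) := by
  let adj := pullPushAdjModEt hf
  let a : (pullModEt hf).obj G ⟶ pullQ f G hG := (adj.homEquiv _ _).symm (unitQ hf hG)
  let b : pullQ f G hG ⟶ (pullModEt hf).obj G := descQ hf (adj.unit.app G) hG
  have hab : a ≫ b = 𝟙 _ := (adj.homEquiv _ _).injective (by
    rw [Adjunction.homEquiv_naturality_right, Equiv.apply_symm_apply, unit_descQ, Adjunction.homEquiv_id])
  have hba : b ≫ a = 𝟙 _ := by
    refine (descQ_unique hf (unitQ hf hG) hG (b ≫ a) ?_).trans (descQ_unique hf (unitQ hf hG) hG (𝟙 _) ?_).symm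
    · rw [Functor.map_comp, ← Category.assoc, unit_descQ, ← adj.homEquiv_unit, Equiv.apply_symm_apply]
    · rw [(pushModEt hf).map_id, Category.comp_id]
  exact ⟨⟨a, b, hab, hba⟩⟩

theorem good_pullModEt [G.IsQuasicoherent] (Z : EtOver X) [IsAffine Z.obj.left.left] :
    Good ((pullModEt hf).obj G) Z := by
  obtain ⟨e⟩ := nonempty_iso_pullModEt hf (G := G) fun V _ => good_of_isQuasicoherent V
  have : (pullQ f G fun V _ => good_of_isQuasicoherent V).IsQuasicoherent := isQuasicoherent_pullQ hf _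
  have : ((pullModEt hf).obj G).IsQuasicoherent :=
    (SheafOfModules.isQuasicoherent (OEtRing X)).prop_of_iso e.symm this
  exact good_of_isQuasicoherent Z

theorem isQuasicoherent_pullModEt [G.IsQuasicoherent] : ((pullModEt hf).obj G).IsQuasicoherent :=
  isQuasicoherent_of_good fun Z _ => good_pullModEt hf Z

end Groth.Agent.QcohEt15.Pull
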