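import Groth.Agent.Lib.QcohEt15.Pull.Ten

/-!
# Descent of elements of modules over affine objects
-/

universe u v

set_option backward.isDefEq.respectTransparency false

open CategoryTheory CategoryTheory.Limits AlgebraicGeometry Opposite TensorProduct

namespace Groth.Agent.QcohEt15.Pull

open AlgSp

variable {S : Scheme.{u}} {X : Sp S} {W : EtOver X} [IsAffine W.obj.left.left] {N : Type v} [AddCommGroup N]
  [Module (Γo W) N]

theorem exists_lift_openImmersion {A B Z : EtOver X} (j : A ⟶ B) [IsOpenImmersion j.hom.left.left] (g : Z ⟶ B)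
    (h : Set.range g.hom.left.left ⊆ Set.range j.hom.left.left) : ∃ l : Z ⟶ A, l ≫ j = g := by
  let l₀ : Z.obj.left ⟶ A.obj.left := Over.homMk (IsOpenImmersion.lift j.hom.left.left g.hom.left.left h) (by
    rw [← Over.w j.hom.left, IsOpenImmersion.lift_fac_assoc]
    exact Over.w g.hom.left)
  have h₀ : l₀ ≫ j.hom.left = g.hom.left := Over.OverMorphism.ext (IsOpenImmersion.lift_fac _ _ _)
  exact ⟨EtOver.homMk l₀ (by rw [← EtOver.w j, ← Category.assoc, ← Functor.map_comp, h₀, EtOver.w g]),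
    EtOver.hom_ext _ _ h₀⟩

theorem rTensor_mapTw_one {Y Z : EtOver X} (k : Y ⟶ W) (l : Z ⟶ Y) (n : N) :
    (mapTw (g := k) l rfl).rTensor N ((1 : Tw k) ⊗ₜ n) = (1 : Tw (l ≫ k)) ⊗ₜ n := by
  rw [LinearMap.rTensor_tmul]
  congr 1
  exact map_one (γ l)

theorem rTensor_mapTw_mapTw {Y Z T : EtOver X} {k : Y ⟶ W} (l : Z ⟶ Y) (m : T ⟶ Z) {kZ : Z ⟶ W} {kT : T ⟶ W}
    (h₁ : l ≫ k = kZ) (h₂ : m ≫ kZ = kT) (z : Tw k ⊗[Γo W] N) :
    (mapTw m h₂).rTensor N ((mapTw l h₁).rTensor N z) =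
      (mapTw (m ≫ l) (by rw [Category.assoc, h₁, h₂])).rTensor N z := by
  rw [← LinearMap.rTensor_comp_apply]
  congr 2

/-- Two elements of a base change agreeing locally are equal. -/
theorem tensor_ext_of_local {Y : EtOver X} [IsAffine Y.obj.left.left] {k : Y ⟶ W} {z z' : Tw k ⊗[Γo W] N}
    {ι : Type*} (Z : ι → EtOver X) [∀ i, IsAffine (Z i).obj.left.left] (l : ∀ i, Z i ⟶ Y)
    (h : ∀ y : ↥Y.obj.left.left, ∃ i, y ∈ Set.range (l i).hom.left.left)
    (e : ∀ i, (mapTw (g := k) (l i) rfl).rTensor N z = (mapTw (g := k) (l i) rfl).rTensor N z') : z = z' := by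
  refine sub_eq_zero.1 (eq_zero_of_local k (z - z') (Sieve.generate (Presieve.ofArrows Z l))
    (ofArrows_mem_etTop Z l h) fun T _ m hm => ?_)
  obtain ⟨T', a, b, ⟨i⟩, rfl⟩ := hm
  rw [← rTensor_mapTw_mapTw (l i) a rfl (by rw [Category.assoc]), map_sub, e i, sub_self, map_zero]

/-- Descent of elements. -/
theorem exists_descend (R : Sieve W) (hR : R ∈ etTop X W)
    (x : ∀ ⦃Y : EtOver X⦄ [IsAffine Y.obj.left.left] (k : Y ⟶ W), R k → Tw k ⊗[Γo W] N)
    (hx : ∀ ⦃Y Z : EtOver X⦄ [IsAffine Y.obj.left.left] [IsAffine Z.obj.left.left] (k : Y ⟶ W) (hk : R k) (l : Z ⟶ Y),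
      (mapTw (g := k) l rfl).rTensor N (x k hk) = x (l ≫ k) (R.downward_closed hk l)) :
    ∃ n : N, ∀ ⦃Y : EtOver X⦄ [IsAffine Y.obj.left.left] (k : Y ⟶ W) (hk : R k), (1 : Tw k) ⊗ₜ[Γo W] n = x k hk := by
  classical
  have hcongr : ∀ {Y : EtOver X} [IsAffine Y.obj.left.left] (k k' : Y ⟶ W) (hk : R k) (hk' : R k') (e : k = k'),
      (mapTw (g := k) (g' := k') (𝟙 Y) (by rw [Category.id_comp, e])).rTensor N (x k hk) = x k' hk' := by
    intro Y _ k k' hk hk' e
    subst e
    rw [show mapTw (g := k) (g' := k) (𝟙 Y) (by rw [Category.id_comp]) = LinearMap.id from LinearMap.ext fun _ => rfl,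
      LinearMap.rTensor_id]
    rfl
  have hx' : ∀ {Y Z : EtOver X} [IsAffine Y.obj.left.left] [IsAffine Z.obj.left.left] (k : Y ⟶ W) (hk : R k)
      (l : Z ⟶ Y) (k' : Z ⟶ W) (e : l ≫ k = k') (hk' : R k'),
      (mapTw (g := k) l e).rTensor N (x k hk) = x k' hk' := by
    intro Y Z _ _ k hk l k' e hk'
    rw [← hcongr (l ≫ k) k' (R.downward_closed hk l) hk' e, ← hx k hk l,
      rTensor_mapTw_mapTw l (𝟙 Z) rfl (by rw [Category.id_comp, e])]
    congr 2
  obtain ⟨κ, hκ, Y, f, hY, hRf, hcov⟩ := exists_affine_family R hR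
  obtain ⟨E₀, hE₀, ι, h₀, hι, hop, hc, hd⟩ := exists_coprod W Y f
  have := Fintype.ofFinite κ
  obtain ⟨s, hs1, hs2, hsadd, hsmul, -⟩ := exists_split ι hop hc hd
  let sl : ∀ k, Tw (f k) →ₗ[Γo W] Tw h₀ := fun k =>
    { toFun := fun a => Tw.mk _ (s k (Tw.out a))
      map_add' := fun a b => hsadd k (Tw.out a) (Tw.out b)
      map_smul' := fun r a => by
        change s k (γ (f k) r * Tw.out a) = γ h₀ r * s k (Tw.out a)
        rw [← hsmul, ← hι k, γ_comp h₀ (ι k)]
        rfl }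
  let z : Tw h₀ ⊗[Γo W] N := ∑ k, (sl k).rTensor N (x (f k) (hRf k))
  have hz : ∀ l, (mapTw (g := h₀) (ι l) (hι l)).rTensor N z = x (f l) (hRf l) := fun l => by
    rw [map_sum, Finset.sum_eq_single l]
    · rw [← LinearMap.rTensor_comp_apply]
      have : mapTw (ι l) (hι l) ∘ₗ sl l = LinearMap.id := LinearMap.ext fun a => hs1 l (Tw.out a)
      rw [this, LinearMap.rTensor_id]
      rfl
    · intro k _ hkl
      rw [← LinearMap.rTensor_comp_apply]
      have : mapTw (ι l) (hι l) ∘ₗ sl k = 0 := LinearMap.ext fun a => hs2 k l (Tw.out a) (Ne.symm hkl)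
      rw [this, LinearMap.rTensor_zero]
      rfl
    · exact fun h => absurd (Finset.mem_univ l) h
  have hs : Surjective h₀.hom.left.left := ⟨fun w => by
    obtain ⟨k, v, hv⟩ := hcov w
    exact ⟨(ι k).hom.left.left v, by
      change ((ι k).hom.left.left ≫ h₀.hom.left.left) v = w
      rw [show (ι k).hom.left.left ≫ h₀.hom.left.left = (f k).hom.left.left from
        congrArg (fun q => q.hom.left.left) (hι k)]
      exact hv⟩⟩
  have := Tw.faithfullyFlat h₀ hs
  let P := EtOver.pullbackObj h₀ h₀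
  let p := EtOver.pullbackFst h₀ h₀
  let q := EtOver.pullbackSnd h₀ h₀
  have hq : q ≫ h₀ = p ≫ h₀ := (EtOver.pullback_condition h₀ h₀).symm
  -- the two pullbacks of `z` agree
  have hpq : (mapTw (g := h₀) p rfl).rTensor N z = (mapTw (g := h₀) q hq).rTensor N z := by
    have hpt : ∀ t : ↥P.obj.left.left, ∃ (i j : κ) (Z : EtOver X) (_ : IsAffine Z.obj.left.left) (m : Z ⟶ P)
        (a : Z ⟶ Y i) (b : Z ⟶ Y j), t ∈ Set.range m.hom.left.left ∧ a ≫ ι i = m ≫ p ∧ b ≫ ι j = m ≫ q := by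
      intro t
      obtain ⟨i, hi⟩ := hc (p.hom.left.left t)
      obtain ⟨j, hj⟩ := hc (q.hom.left.left t)
      have := hop i
      have := hop j
      let O := p.hom.left.left ⁻¹ᵁ (ι i).hom.left.left.opensRange ⊓ q.hom.left.left ⁻¹ᵁ (ι j).hom.left.left.opensRange
      obtain ⟨V, hV, htV, hVO⟩ := P.obj.left.left.isBasis_affineOpens.exists_subset_of_mem_open
        (show t ∈ (O : Set ↥P.obj.left.left) from ⟨hi, hj⟩) O.isOpen
      obtain ⟨V, hV', rfl⟩ := hV
      let m := AlgSpEt14.openSubι P V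
      have ha : Set.range (m ≫ p).hom.left.left ⊆ Set.range (ι i).hom.left.left := by
        rintro _ ⟨v, rfl⟩
        exact (hVO ((AlgSpEt14.range_openSubι P V).le ⟨v, rfl⟩)).1
      have hb : Set.range (m ≫ q).hom.left.left ⊆ Set.range (ι j).hom.left.left := by
        rintro _ ⟨v, rfl⟩
        exact (hVO ((AlgSpEt14.range_openSubι P V).le ⟨v, rfl⟩)).2
      obtain ⟨a, ha'⟩ := exists_lift_openImmersion (ι i) (m ≫ p) ha
      obtain ⟨b, hb'⟩ := exists_lift_openImmersion (ι j) (m ≫ q) hb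
      exact ⟨i, j, AlgSpEt14.openSub P V, hV', m, a, b, (AlgSpEt14.range_openSubι P V).ge htV, ha', hb'⟩
    choose i j Z hZ m a b htm hai hbj using hpt
    refine tensor_ext_of_local Z m (fun t => ⟨t, htm t⟩) fun t => ?_
    rw [rTensor_mapTw_mapTw p (m t) rfl rfl, rTensor_mapTw_mapTw q (m t) hq rfl]
    have hk : R (m t ≫ p ≫ h₀) := by
      rw [← Category.assoc, ← hai, Category.assoc, hι]
      exact R.downward_closed (hRf _) _
    have e₁ : a t ≫ f (i t) = m t ≫ p ≫ h₀ := by rw [← hι, ← Category.assoc, hai, Category.assoc]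
    have e₂ : b t ≫ f (j t) = m t ≫ p ≫ h₀ := by rw [← hι, ← Category.assoc, hbj, Category.assoc, hq]
    have k₁ := hx' (f (i t)) (hRf (i t)) (a t) _ e₁ hk
    have k₂ := hx' (f (j t)) (hRf (j t)) (b t) _ e₂ hk
    rw [← hz, rTensor_mapTw_mapTw (ι (i t)) (a t) (hι _) e₁] at k₁
    rw [← hz, rTensor_mapTw_mapTw (ι (j t)) (b t) (hι _) e₂] at k₂
    refine Eq.trans ?_ ((k₁.trans k₂.symm).trans ?_)
    · congr 3; exact (hai t).symm
    · congr 3; exact hbj t
  -- hence `z` comes from `N`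
  obtain ⟨μ, hμ, hμt⟩ := exists_mulMap h₀ h₀
  let μP : Tw h₀ ⊗[Γo W] Tw h₀ →ₗ[Γo W] Tw (p ≫ h₀) :=
    TensorProduct.lift
      { toFun := fun a =>
          { toFun := fun b => (mapTw p rfl a) * (mapTw q hq b)
            map_add' := fun b b' => by rw [map_add, mul_add]
            map_smul' := fun r b => by rw [map_smul, RingHom.id_apply, mul_smul_comm] }
        map_add' := fun a a' => LinearMap.ext fun b => by
          change mapTw p rfl (a + a') * _ = _
          rw [map_add, add_mul]; rfl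
        map_smul' := fun r a => LinearMap.ext fun b => by
          change mapTw p rfl (r • a) * _ = _
          rw [map_smul, smul_mul_assoc]; rfl }
  have hμP : Function.Bijective μP := by
    have : (μP : _ → _) = fun x => Tw.mk (p ≫ h₀) (μ x) := funext fun x => by
      induction x using TensorProduct.induction_on with
      | zero => rw [map_zero, map_zero]; rfl
      | tmul a b => rw [hμt]; rfl
      | add x y hx hy => rw [map_add, map_add, hx, hy]; rfl
    rw [this]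
    exact hμ
  let ν : Tw h₀ ⊗[Γo W] (Tw h₀ ⊗[Γo W] N) →ₗ[Γo W] Tw (p ≫ h₀) ⊗[Γo W] N :=
    μP.rTensor N ∘ₗ (TensorProduct.assoc (Γo W) (Tw h₀) (Tw h₀) N).symm.toLinearMap
  have hν : Function.Injective ν := ((LinearEquiv.rTensor N (LinearEquiv.ofBijective μP hμP)).injective).comp
    (TensorProduct.assoc (Γo W) (Tw h₀) (Tw h₀) N).symm.injective
  have hν₁ : ∀ w, ν ((Amitsur.ι (Tw h₀) N).lTensor (Tw h₀) w) = (mapTw (g := h₀) p rfl).rTensor N w := fun w => by
    induction w using TensorProduct.induction_on with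
    | zero => simp
    | tmul c n =>
      change μP (c ⊗ₜ (1 : Tw h₀)) ⊗ₜ[Γo W] n = _
      congr 1
      change γ p (Tw.out c) * γ q (1 : Γo E₀) = γ p (Tw.out c)
      rw [map_one]
      exact mul_one _
    | add u w hu hw => simp only [map_add, hu, hw]
  have hν₂ : ∀ w, ν (Amitsur.ι (Tw h₀) (Tw h₀ ⊗[Γo W] N) w) = (mapTw (g := h₀) q hq).rTensor N w := fun w => by
    induction w using TensorProduct.induction_on with
    | zero => simp
    | tmul c n =>
      change μP ((1 : Tw h₀) ⊗ₜ c) ⊗ₜ[Γo W] n = _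
      congr 1
      change γ p (1 : Γo E₀) * γ q (Tw.out c) = γ q (Tw.out c)
      rw [map_one]
      exact one_mul _
    | add u w hu hw => simp only [map_add, hu, hw]
  have hd₀ : Amitsur.d₀ (Tw h₀) N z = 0 := by
    refine hν ?_
    rw [map_zero, Amitsur.d₀, LinearMap.sub_apply, map_sub, hν₁, hν₂, hpq, sub_self]
  obtain ⟨n, hn⟩ := (Amitsur.exact_d₀ (A := Γo W) (Tw h₀) N z).1 hd₀
  rw [Amitsur.ι_apply] at hn
  refine ⟨n, fun Y' _ k hk => ?_⟩
  have hpt : ∀ y : ↥Y'.obj.left.left, ∃ (j : κ) (Z : EtOver X) (_ : IsAffine Z.obj.left.left) (l : Z ⟶ Y') (c : Z ⟶ Y j),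
      y ∈ Set.range l.hom.left.left ∧ c ≫ f j = l ≫ k := by
    intro y
    obtain ⟨j, v, hv⟩ := hcov (k.hom.left.left y)
    let Q := EtOver.pullbackObj k (f j)
    obtain ⟨t, ht, -⟩ := Scheme.exists_preimage_of_isPullback
      ((IsPullback.of_hasPullback k.hom.left (f j).hom.left).map (Over.forget S)) y v hv.symm
    obtain ⟨V, hV, htV, -⟩ := Q.obj.left.left.isBasis_affineOpens.exists_subset_of_mem_open (Set.mem_univ t) isOpen_univ
    obtain ⟨V, hV', rfl⟩ := hV
    obtain ⟨v', hv'⟩ := (AlgSpEt14.range_openSubι Q V).ge htV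
    refine ⟨j, AlgSpEt14.openSub Q V, hV', AlgSpEt14.openSubι Q V ≫ EtOver.pullbackFst k (f j),
      AlgSpEt14.openSubι Q V ≫ EtOver.pullbackSnd k (f j), ⟨v', ?_⟩, ?_⟩
    · change (EtOver.pullbackFst k (f j)).hom.left.left ((AlgSpEt14.openSubι Q V).hom.left.left v') = y
      rw [hv']
      exact ht
    · rw [Category.assoc, Category.assoc, EtOver.pullback_condition]
  choose j Z hZ l c hyl hcl using hpt
  refine tensor_ext_of_local Z l (fun y => ⟨y, hyl y⟩) fun y => ?_
  rw [rTensor_mapTw_one, hx k hk (l y), ← hx' (f (j y)) (hRf _) (c y) _ (hcl y) (R.downward_closed hk _), ← hz,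
    ← hn, rTensor_mapTw_mapTw (ι (j y)) (c y) (hι _) (hcl y), LinearMap.rTensor_tmul]
  congr 1
  exact (map_one (γ (c y ≫ ι (j y)))).symm

end Groth.Agent.QcohEt15.Pull
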