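import Groth.Agent.Lib.QcohEt15.Pull.Desc
import Groth.Agent.Lib.QcohEt15.PushAss

/-!
# Sections of the inverse image over a base change, and weakly associated points
-/

universe u v

set_option backward.isDefEq.respectTransparency false

open CategoryTheory CategoryTheory.Limits AlgebraicGeometry Opposite TensorProduct

namespace Groth.Agent.QcohEt15.Pull

open AlgSp Groth.Agent.WeakAssEt15

variable {S : Scheme.{u}} {X : Sp S} {Y : Space S} {f : X ⟶ Y.obj} (hf : Representable f) {G : ModEt Y.obj}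

theorem ap_lkOf_id (E : EtOver Y.obj) : ap (lkOf hf (𝟙 (EtOver.bcObj hf E))) = bγ hf E :=
  RingHom.ext fun r => ap_lkOf hf (𝟙 _) r

/-- Sections of the inverse image over an affine base change. -/
noncomputable def pullSectEquiv (hG : ∀ (V : EtOver Y.obj) [IsAffine V.obj.left.left], Good G V)
    (E : EtOver Y.obj) [IsAffine E.obj.left.left] [IsAffine (EtOver.bcObj hf E).obj.left.left] :
    sectModEt (pullQ f G hG) (EtOver.bcObj hf E) ≃ₗ[Γo (EtOver.bcObj hf E)] Ten G (lkOf hf (𝟙 (EtOver.bcObj hf E))) :=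
  LinearEquiv.ofBijective _ (evL_bijective hG (lkOf hf (𝟙 (EtOver.bcObj hf E))))

variable [(SheafOfModules.pushforward.{u + 1} (bcRingHom hf)).IsRightAdjoint] [G.IsQuasicoherent]

theorem exists_pullModEt_equiv (E : EtOver Y.obj) [IsAffine E.obj.left.left]
    [IsAffine (EtOver.bcObj hf E).obj.left.left] :
    Nonempty (sectModEt ((pullModEt hf).obj G) (EtOver.bcObj hf E) ≃ₗ[Γo (EtOver.bcObj hf E)]
      Ten G (lkOf hf (𝟙 (EtOver.bcObj hf E)))) := by
  obtain ⟨e⟩ := nonempty_iso_pullModEt hf (G := G) fun V _ => good_of_isQuasicoherent V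
  have h₁ : appₗ e.hom (EtOver.bcObj hf E) ∘ₗ appₗ e.inv (EtOver.bcObj hf E) = LinearMap.id :=
    LinearMap.ext fun m => congrArg (fun q => appₗ q (EtOver.bcObj hf E) m) e.inv_hom_id
  have h₂ : appₗ e.inv (EtOver.bcObj hf E) ∘ₗ appₗ e.hom (EtOver.bcObj hf E) = LinearMap.id :=
    LinearMap.ext fun m => congrArg (fun q => appₗ q (EtOver.bcObj hf E) m) e.hom_inv_id
  have hb : Function.Bijective (appₗ e.hom (EtOver.bcObj hf E)) := Function.bijective_iff_has_inverse.2
    ⟨appₗ e.inv (EtOver.bcObj hf E), fun m => LinearMap.congr_fun h₂ m, fun m => LinearMap.congr_fun h₁ m⟩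
  exact ⟨(LinearEquiv.ofBijective _ hb).trans (pullSectEquiv hf _ E)⟩

theorem isWeakAssOn_pull_iff (hfin : IsFiniteMor f) (hflat : LocP @Flat f) (E : EtOver Y.obj)
    [IsAffine E.obj.left.left] [IsAffine (EtOver.bcObj hf E).obj.left.left] (b : ↥(EtOver.bcObj hf E).obj.left.left) :
    IsWeakAssOn ((pullModEt hf).obj G) (EtOver.bcObj hf E) b ↔ IsWeakAssOn G E ((EtOver.bcπ hf E).left b) := by
  have := isAffine_bcObj hf (isAffineMor_of_isFiniteMor hfin) E
  let B := EtOver.bcObj hf E
  obtain ⟨e⟩ := exists_pullModEt_equiv hf (G := G) E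
  let φ := lkOf hf (𝟙 B)
  have : Flat (EtOver.bcπ hf E).left :=
    hflat B.obj.hom E.obj.hom (EtOver.bcπ hf E) B.property E.property (EtOver.isPullback_bcObj hf E).w
  have hflat' : (bγ hf E).Flat := HasRingHomProperty.appTop @Flat (EtOver.bcπ hf E).left this
  have hfin' := finite_bγ hf hfin E
  rw [← ap_lkOf_id hf E] at hflat' hfin'
  have : Module.Flat (Γo E) (TwP φ) := hflat'
  have : Module.Finite (Γo E) (TwP φ) := hfin'
  let p := primeAtPt E.obj.left.left ((EtOver.bcπ hf E).left b)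
  let u : Ideal (TwP φ) := primeAtPt B.obj.left.left b
  have : u.IsPrime := isPrime_primeAtPt _ b
  have hp : p = u.comap (algebraMap (Γo E) (TwP φ)) := by
    change p = (primeAtPt B.obj.left.left b).comap (ap φ)
    rw [ap_lkOf_id]
    exact (primeAtPt_comap (EtOver.bcπ hf E).left b).symm
  have : u.LiesOver p := ⟨hp⟩
  rw [isWeakAssOn_iff, isWeakAssOn_iff]
  refine (Groth.Agent.WeakAssBC4.weakAss_linearEquiv e (p := primeAtPt B.obj.left.left b)).trans
    ⟨fun h => Groth.Agent.WeakAssBC4.weakAss_of_baseChange_finite_flat (A := Γo E) (B := TwP φ) u h,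
      Groth.Agent.WeakAssBC4.weakAss_baseChange_of_flat (A := Γo E) (B := TwP φ) u fun q hq hle hpq => ?_⟩
  have := hq
  refine Algebra.QuasiFinite.eq_of_le_of_under_eq (R := Γo E) q u hle (le_antisymm (Ideal.comap_mono hle) ?_)
  rw [← u.over_def p]
  exact hpq

theorem mem_weakAss_pull_iff (hfin : IsFiniteMor f) (hflat : LocP @Flat f) (x : Points X) :
    x ∈ WeakAssEt ((pullModEt hf).obj G) ↔ Points.map f x ∈ WeakAssEt G := by
  have : ((pullModEt hf).obj G).IsQuasicoherent := isQuasicoherent_pullModEt hf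
  obtain ⟨E, hE, b, hb, hbf⟩ := exists_chart_bc_point hf x
  have := isAffine_bcObj hf (isAffineMor_of_isFiniteMor hfin) E
  constructor
  · intro h
    exact ⟨E, hE, _, hbf, (isWeakAssOn_pull_iff hf hfin hflat E b).1 (isWeakAssOn_of_mem_weakAssEt b (hb.symm ▸ h))⟩
  · intro h
    exact ⟨EtOver.bcObj hf E, inferInstance, b, hb,
      (isWeakAssOn_pull_iff hf hfin hflat E b).2 (isWeakAssOn_of_mem_weakAssEt _ (hbf.symm ▸ h))⟩

end Groth.Agent.QcohEt15.Pull
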