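import Groth.Agent.Lib.QcohEt15.Pull.Transfer

/-!
# The inverse image of a module compatible with base change, as a sheaf of compatible families
-/

universe u v

set_option backward.isDefEq.respectTransparency false

open CategoryTheory CategoryTheory.Limits AlgebraicGeometry Opposite TensorProduct

namespace Groth.Agent.QcohEt15.Pull

open AlgSp

variable {S : Scheme.{u}} {X Y : Sp S} (f : X ⟶ Y) (G : ModEt Y)

variable {f G}

/-- Correspondence is reflexive. -/
theorem rel_refl (hG : ∀ (V : EtOver Y) [IsAffine V.obj.left.left], Good G V) {W : EtOver X} {E : EtOver Y}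
    [IsAffine E.obj.left.left] (φ : Lk f W E) (x : Ten G φ) : Rel φ φ x x :=
  rel_of_link hG φ (𝟙 E) (𝟙 E) (Lk.post_id φ) (Lk.post_id φ) rfl

/-- Corresponding elements for the same map are equal. -/
theorem rel_eq (hG : ∀ (V : EtOver Y) [IsAffine V.obj.left.left], Good G V) {W : EtOver X} [IsAffine W.obj.left.left]
    {E : EtOver Y} [IsAffine E.obj.left.left] {φ : Lk f W E} {x y : Ten G φ} (h : Rel φ φ x y) : x = y :=
  rel_ext hG (rel_refl hG φ x) h

/-- Correspondence is transitive. -/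
theorem Rel.trans (hG : ∀ (V : EtOver Y) [IsAffine V.obj.left.left], Good G V) {W : EtOver X} {E E' E'' : EtOver Y}
    {φ : Lk f W E} {φ' : Lk f W E'} {φ'' : Lk f W E''} {x : Ten G φ} {x' : Ten G φ'} {x'' : Ten G φ''}
    (h : Rel φ φ' x x') (h' : Rel φ' φ'' x' x'') : Rel φ φ'' x x'' := by
  intro T hT k V hV ψ p q e e''
  choose U hU l V₃ hV₃ χ r q' hu er eq using fun t : ↥T.obj.left.left => exists_link ψ (φ'.pre k) t
  refine sepT U l (fun t => ⟨t, hu t⟩) fun t => ?_
  have := hU t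
  have := hV₃ t
  refine (chT_bijective (r t) (hG V (r t)) (er t)).1 ?_
  have ep : (χ t).post (r t ≫ p) = φ.pre (l t ≫ k) := by
    rw [← Lk.post_post, er, ← Lk.pre_post, e, Lk.pre_pre]
  have eq'' : (χ t).post (r t ≫ q) = φ''.pre (l t ≫ k) := by
    rw [← Lk.post_post, er, ← Lk.pre_post, e'', Lk.pre_pre]
  have eq' : (χ t).post (q' t) = φ'.pre (l t ≫ k) := by rw [eq, Lk.pre_pre]
  rw [resT_chT (l t) p e (Lk.pre_pre _ _ _) rfl, resT_chT (l t) q e'' (Lk.pre_pre _ _ _) rfl, resT_resT, resT_resT,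
    chT_chT, chT_chT]
  exact (h (U t) (hU t) (l t ≫ k) (V₃ t) (hV₃ t) (χ t) _ _ ep eq').trans
    (h' (U t) (hU t) (l t ≫ k) (V₃ t) (hV₃ t) (χ t) _ _ eq' eq'')

variable (f G)

/-- An affine test object over `Z`, mapped to an affine object over `Y`. -/
structure Test (Z : EtOver X) : Type (u + 1) where
  /-- the affine object over `X` -/
  W : EtOver X
  hW : IsAffine W.obj.left.left
  /-- its map to `Z` -/
  a : W ⟶ Z
  /-- the affine object over `Y` -/
  E : EtOver Y
  hE : IsAffine E.obj.left.left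
  /-- the map between them -/
  φ : Lk f W E

/-- A family of values at all affine test objects. -/
abbrev Fam (Z : EtOver X) : Type (u + 1) := ∀ t : Test f Z, Ten G t.φ

variable {f G}

/-- The values correspond along all morphisms and choices of maps. -/
def IsNat {Z : EtOver X} (s : Fam f G Z) : Prop :=
  ∀ (W W' : EtOver X) (hW : IsAffine W.obj.left.left) (hW' : IsAffine W'.obj.left.left) (a : W ⟶ Z) (k : W' ⟶ W)
    (E E' : EtOver Y) (hE : IsAffine E.obj.left.left) (hE' : IsAffine E'.obj.left.left) (φ : Lk f W E)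
    (φ' : Lk f W' E'), Rel (φ.pre k) φ' (resT k rfl (s ⟨W, hW, a, E, hE, φ⟩)) (s ⟨W', hW', k ≫ a, E', hE', φ'⟩)

theorem Rel.neg {W : EtOver X} {E E' : EtOver Y} {φ : Lk f W E} {φ' : Lk f W E'} {x : Ten G φ} {x' : Ten G φ'}
    (h : Rel φ φ' x x') : Rel φ φ' (-x) (-x') :=
  fun Z hZ k V hV ψ p q e e' => by simp only [map_neg, h Z hZ k V hV ψ p q e e']

theorem Rel.zero {W : EtOver X} {E E' : EtOver Y} (φ : Lk f W E) (φ' : Lk f W E') :
    Rel φ φ' (0 : Ten G φ) (0 : Ten G φ') :=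
  fun Z hZ k V hV ψ p q e e' => by simp only [map_zero]

variable (f G)

/-- The compatible families. -/
noncomputable def fams (Z : EtOver X) : AddSubgroup (Fam f G Z) where
  carrier := {s | IsNat s}
  add_mem' {s t} hs ht := fun W W' hW hW' a k E E' hE hE' φ φ' => by
    change Rel _ _ (resT k rfl (s ⟨W, hW, a, E, hE, φ⟩ + t ⟨W, hW, a, E, hE, φ⟩)) (s ⟨W', hW', k ≫ a, E', hE', φ'⟩ + t ⟨W', hW', k ≫ a, E', hE', φ'⟩)
    rw [map_add]
    exact (hs W W' hW hW' a k E E' hE hE' φ φ').add (ht W W' hW hW' a k E E' hE hE' φ φ')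
  zero_mem' := fun W W' hW hW' a k E E' hE hE' φ φ' => by
    change Rel _ _ (resT k rfl 0) 0
    rw [map_zero]
    exact Rel.zero _ _
  neg_mem' {s} hs := fun W W' hW hW' a k E E' hE hE' φ φ' => by
    change Rel _ _ (resT k rfl (-s ⟨W, hW, a, E, hE, φ⟩)) (-s ⟨W', hW', k ≫ a, E', hE', φ'⟩)
    rw [map_neg]
    exact (hs W W' hW hW' a k E E' hE hE' φ φ').neg

/-- Sections of the inverse image. -/
abbrev Sect (Z : EtOver X) : Type (u + 1) := ↥(fams f G Z)

variable {f G}

/-- Multiplication by a function. -/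
noncomputable def smulFam {Z : EtOver X} (r : Γo Z) (s : Sect f G Z) : Sect f G Z :=
  ⟨fun t => γ t.a r • s.1 t, fun W W' hW hW' a k E E' hE hE' φ φ' => by
    have h := (s.2 W W' hW hW' a k E E' hE hE' φ φ').smul (γ k (γ a r))
    have e : γ (k ≫ a) r = γ k (γ a r) := by rw [γ_comp]; rfl
    change Rel _ _ (resT k rfl (γ a r • s.1 ⟨W, hW, a, E, hE, φ⟩)) (γ (k ≫ a) r • s.1 ⟨W', hW', k ≫ a, E', hE', φ'⟩)
    rw [resT_smul, e]
    exact h⟩

noncomputable instance (Z : EtOver X) : Module (Γo Z) (Sect f G Z) where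
  smul := smulFam
  one_smul s := Subtype.ext (funext fun t => by change γ t.a 1 • s.1 t = _; rw [map_one, one_smul])
  mul_smul r r' s := Subtype.ext (funext fun t => by
    change γ t.a (r * r') • s.1 t = γ t.a r • γ t.a r' • s.1 t; rw [map_mul, mul_smul])
  smul_zero r := Subtype.ext (funext fun t => smul_zero (γ t.a r))
  smul_add r s s' := Subtype.ext (funext fun t => smul_add (γ t.a r) (s.1 t) (s'.1 t))
  add_smul r r' s := Subtype.ext (funext fun t => by
    change γ t.a (r + r') • s.1 t = γ t.a r • s.1 t + γ t.a r' • s.1 t; rw [map_add, add_smul])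
  zero_smul s := Subtype.ext (funext fun t => by change γ t.a 0 • s.1 t = 0; rw [map_zero, zero_smul])

/-- The value of a section at a test object. -/
def Sect.val' {Z : EtOver X} (s : Sect f G Z) (W : EtOver X) [IsAffine W.obj.left.left] (a : W ⟶ Z) (E : EtOver Y)
    [IsAffine E.obj.left.left] (φ : Lk f W E) : Ten G φ :=
  s.1 ⟨W, inferInstance, a, E, inferInstance, φ⟩

theorem Sect.ext' {Z : EtOver X} {s t : Sect f G Z}
    (h : ∀ (W : EtOver X) [IsAffine W.obj.left.left] (a : W ⟶ Z) (E : EtOver Y) [IsAffine E.obj.left.left]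
      (φ : Lk f W E), s.val' W a E φ = t.val' W a E φ) : s = t :=
  Subtype.ext (funext fun ⟨W, hW, a, E, hE, φ⟩ => @h W hW a E hE φ)

variable (f G)

/-- Restriction. -/
noncomputable def resS {Z Z' : EtOver X} (g : Z' ⟶ Z) : Sect f G Z →+ Sect f G Z' :=
  AddMonoidHom.mk'
    (fun s => ⟨fun t => s.1 ⟨t.W, t.hW, t.a ≫ g, t.E, t.hE, t.φ⟩, fun W W' hW hW' a k E E' hE hE' φ φ' => by
      change Rel _ _ (resT k rfl (s.1 ⟨W, hW, a ≫ g, E, hE, φ⟩)) (s.1 ⟨W', hW', (k ≫ a) ≫ g, E', hE', φ'⟩)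
      rw [Category.assoc]
      exact s.2 W W' hW hW' (a ≫ g) k E E' hE hE' φ φ'⟩)
    fun _ _ => rfl

/-- The presheaf of abelian groups of sections. -/
noncomputable def pre : (EtOver X)ᵒᵖ ⥤ AddCommGrpCat.{u + 1} where
  obj Z := AddCommGrpCat.of (Sect f G Z.unop)
  map g := AddCommGrpCat.ofHom (resS f G g.unop)
  map_id Z := by
    refine AddCommGrpCat.hom_ext (AddMonoidHom.ext fun s => ?_)
    refine Sect.ext' fun W _ a E _ φ => ?_
    change s.1 ⟨W, _, a ≫ 𝟙 _, E, _, φ⟩ = s.1 ⟨W, _, a, E, _, φ⟩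
    rw [Category.comp_id]
  map_comp g h := by
    refine AddCommGrpCat.hom_ext (AddMonoidHom.ext fun s => ?_)
    refine Sect.ext' fun W _ a E _ φ => ?_
    change s.1 ⟨W, _, a ≫ h.unop ≫ g.unop, E, _, φ⟩ = s.1 ⟨W, _, (a ≫ h.unop) ≫ g.unop, E, _, φ⟩
    rw [Category.assoc]

noncomputable instance (Z : (EtOver X)ᵒᵖ) : Module ((OEtRing X).obj.obj Z) ((pre f G).obj Z) :=
  Module.compHom (Sect f G Z.unop) (ULift.ringEquiv.toRingHom : ULift.{u + 1} (Γo Z.unop) →+* Γo Z.unop)

/-- The presheaf of modules of sections. -/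
noncomputable def preMod : PresheafOfModules.{u + 1} (OEtRing X).obj :=
  PresheafOfModules.ofPresheaf (pre f G) fun {Z Z'} g r s => Sect.ext' fun W _ a E _ φ => by
    change γ (a ≫ g.unop) (ULift.down r) • _ = γ a (γ g.unop (ULift.down r)) • _
    rw [γ_comp]
    rfl

variable {f G} (hG : ∀ (V : EtOver Y) [IsAffine V.obj.left.left], Good G V)

include hG in
theorem val'_res_self {Z W W' : EtOver X} [IsAffine W.obj.left.left] [IsAffine W'.obj.left.left] (s : Sect f G Z)
    (a : W ⟶ Z) (k : W' ⟶ W) {E : EtOver Y} [IsAffine E.obj.left.left] (φ : Lk f W E) {φ' : Lk f W' E}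
    (e : φ.pre k = φ') {b : W' ⟶ Z} (eb : k ≫ a = b) : resT k e (s.val' W a E φ) = s.val' W' b E φ' := by
  subst e eb
  exact rel_eq hG (s.2 W W' _ _ a k E E _ _ φ (φ.pre k))

include hG in
theorem isSheaf_preMod : Presheaf.IsSheaf (etTop X) (preMod f G).presheaf := by
  rw [Presheaf.isSheaf_iff_isSheaf_comp (etTop X) (preMod f G).presheaf
    (CategoryTheory.forget AddCommGrpCat.{u + 1}), isSheaf_iff_isSheaf_of_type]
  intro Z R hR x hx
  let y : ∀ {T : EtOver X} (k : T ⟶ Z), R k → Sect f G T := fun k hk => x k hk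
  have hy : ∀ {T T' : EtOver X} (k : T ⟶ Z) (hk : R k) (l : T' ⟶ T),
      resS f G l (y k hk) = y (l ≫ k) (R.downward_closed hk l) :=
    fun k hk l => (Presieve.compatible_iff_sieveCompatible _).1 hx k l hk |>.symm
  have hcongr : ∀ {T : EtOver X} (k k' : T ⟶ Z) (hk : R k) (hk' : R k') (_ : k = k'), y k hk = y k' hk' :=
    fun k k' hk hk' e => by subst e; rfl
  have hglue : ∀ (W : EtOver X) (hW : IsAffine W.obj.left.left) (a : W ⟶ Z) (E : EtOver Y)
      (hE : IsAffine E.obj.left.left) (φ : Lk f W E), ∃ v : Ten G φ,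
      ∀ (T : EtOver X) (_ : IsAffine T.obj.left.left) (k : T ⟶ W) (hk : R (k ≫ a)),
        resT k rfl v = (y (k ≫ a) hk).val' T (𝟙 T) E (φ.pre k) := by
    intro W hW a E hE φ
    obtain ⟨v, hv⟩ := glueT φ (R.pullback a) ((etTop X).pullback_stable a hR)
      (fun T _ k hk => (y (k ≫ a) hk).val' T (𝟙 T) E (φ.pre k)) fun T T' _ _ k hk l => by
        rw [val'_res_self hG _ (𝟙 T) l (φ.pre k) (Lk.pre_pre l k φ) (Category.comp_id l)]
        have h := congrArg (fun q => Sect.val' q T' (𝟙 T') E (φ.pre (l ≫ k))) (hy (k ≫ a) hk l)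
        rw [hcongr ((l ≫ k) ≫ a) (l ≫ k ≫ a) _ (R.downward_closed hk l) (Category.assoc _ _ _), ← h]
        change (y (k ≫ a) hk).val' T' l E (φ.pre (l ≫ k)) = (y (k ≫ a) hk).val' T' (𝟙 T' ≫ l) E (φ.pre (l ≫ k))
        rw [Category.id_comp]
    exact ⟨v, fun T hT k hk => hv k hk⟩
  choose v hv using hglue
  let w : Fam f G Z := fun t => v t.W t.hW t.a t.E t.hE t.φ
  have hnat : IsNat w := by
    intro W W' hW hW' a k E E' hE hE' φ φ' T hT l V hV ψ p q ep eq
    choose U hU m hm hu using fun t : ↥T.obj.left.left =>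
      (exists_affine_family (R.pullback ((l ≫ k) ≫ a)) ((etTop X).pullback_stable _ hR)) |>
        fun ⟨κ, _, U, m, hU, hm, hc⟩ => (⟨U (hc t).choose, hU _, m (hc t).choose, hm _, (hc t).choose_spec⟩ :
          ∃ (U : EtOver X) (_ : IsAffine U.obj.left.left) (m : U ⟶ T),
            (R.pullback ((l ≫ k) ≫ a)) m ∧ t ∈ Set.range m.hom.left.left)
    refine sepT U m (fun t => ⟨t, hu t⟩) fun t => ?_
    have := hU t
    let c : U t ⟶ Z := m t ≫ (l ≫ k) ≫ a
    have hc : R c := hm t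
    have h₁ : R (((m t ≫ l) ≫ k) ≫ a) := by simpa only [Category.assoc, c] using hc
    have h₂ : R ((m t ≫ l) ≫ k ≫ a) := by simpa only [Category.assoc, c] using hc
    rw [resT_chT (m t) p ep rfl rfl, resT_chT (m t) q eq rfl rfl, resT_resT, resT_resT, resT_resT]
    have key := (y c hc).2 (U t) (U t) (hU t) (hU t) (𝟙 _) (𝟙 _) E E' hE hE' (φ.pre ((m t ≫ l) ≫ k)) (φ'.pre (m t ≫ l))
      (U t) (hU t) (𝟙 _) V hV (ψ.pre (m t)) p q
      (by rw [Lk.pre_id, Lk.pre_id, ← Lk.pre_post, ep, Lk.pre_pre, Lk.pre_pre])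
      (by rw [Lk.pre_id, ← Lk.pre_post, eq, Lk.pre_pre])
    have e₁ := hv W hW a E hE φ (U t) (hU t) ((m t ≫ l) ≫ k) h₁
    have e₂ := hv W' hW' (k ≫ a) E' hE' φ' (U t) (hU t) (m t ≫ l) h₂
    rw [hcongr _ c h₁ hc (by simp only [c, Category.assoc])] at e₁
    rw [hcongr _ c h₂ hc (by simp only [c, Category.assoc])] at e₂
    change chT p _ (resT (𝟙 _) _ (resT (𝟙 _) _ ((y c hc).val' (U t) (𝟙 _) E (φ.pre ((m t ≫ l) ≫ k))))) =
      chT q _ (resT (𝟙 _) _ ((y c hc).val' (U t) (𝟙 _ ≫ 𝟙 _) E' (φ'.pre (m t ≫ l)))) at key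
    rw [Category.id_comp] at key
    change chT p _ (resT (𝟙 _) _ (resT (𝟙 _) _ ((y c hc).val' (U t) (𝟙 _) E (φ.pre ((m t ≫ l) ≫ k))))) =
      chT q _ (resT (𝟙 _) _ ((y c hc).val' (U t) (𝟙 _) E' (φ'.pre (m t ≫ l)))) at key
    rw [← e₁, ← e₂] at key
    simp only [resT_resT, Category.id_comp, Category.assoc] at key ⊢
    exact key
  refine ⟨(⟨w, hnat⟩ : Sect f G Z), fun T g hg => Sect.ext' fun W _ a E _ φ => ?_, fun s hs => Sect.ext' fun W _ a E _ φ => ?_⟩
  · change v W _ (a ≫ g) E _ φ = (y g hg).val' W a E φ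
    have h := hv W inferInstance (a ≫ g) E inferInstance φ W inferInstance (𝟙 W)
      (by rw [Category.id_comp]; exact R.downward_closed hg a)
    rw [hcongr _ (a ≫ g) _ (R.downward_closed hg a) (Category.id_comp _), ← hy g hg a] at h
    have h' : ((resS f G a) (y g hg)).val' W (𝟙 W) E (φ.pre (𝟙 W)) = resT (𝟙 W) rfl ((y g hg).val' W a E φ) :=
      (val'_res_self hG (y g hg) a (𝟙 W) φ rfl rfl).symm
    rw [h'] at h
    exact (resT_id (Lk.pre_id φ) _).symm.trans (h.trans (resT_id (Lk.pre_id φ) _))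
  · change Sect.val' (show Sect f G Z from s) W a E φ = v W _ a E _ φ
    choose U hU m hm hu using fun t : ↥W.obj.left.left =>
      (exists_affine_family (R.pullback a) ((etTop X).pullback_stable _ hR)) |>
        fun ⟨κ, _, U, m, hU, hm, hc⟩ => (⟨U (hc t).choose, hU _, m (hc t).choose, hm _, (hc t).choose_spec⟩ :
          ∃ (U : EtOver X) (_ : IsAffine U.obj.left.left) (m : U ⟶ W),
            (R.pullback a) m ∧ t ∈ Set.range m.hom.left.left)
    refine sepT U m (fun t => ⟨t, hu t⟩) fun t => ?_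
    have := hU t
    rw [hv W _ a E _ φ (U t) (hU t) (m t) (hm t), val'_res_self hG _ a (m t) φ rfl rfl]
    have h := congrArg (fun q => Sect.val' q (U t) (𝟙 _) E (φ.pre (m t))) (show resS f G (m t ≫ a)
      (show Sect f G Z from s) = y (m t ≫ a) (hm t) from hs (m t ≫ a) (hm t))
    rw [← h]
    change _ = (show Sect f G Z from s).val' (U t) (𝟙 _ ≫ m t ≫ a) E (φ.pre (m t))
    rw [Category.id_comp]

/-- The inverse image. -/
noncomputable def pullQ (f : X ⟶ Y) (G : ModEt Y) (hG : ∀ (V : EtOver Y) [IsAffine V.obj.left.left], Good G V) :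
    ModEt X where
  val := preMod f G
  isSheaf := isSheaf_preMod hG

end Groth.Agent.QcohEt15.Pull
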