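import Groth.Agent.Lib.QcohEt15.FP

/-!
# Tensor products attached to maps from objects over `X` to objects over `Y`
-/

universe u v

set_option backward.isDefEq.respectTransparency false

open CategoryTheory CategoryTheory.Limits AlgebraicGeometry Opposite TensorProduct

namespace Groth.Agent.QcohEt15.Pull

open AlgSp

variable {S : Scheme.{u}} {X Y : Sp S} {f : X ⟶ Y}

/-- Maps of schemes from an object over `X` to an object over `Y` lying over `f`. -/
def Lk (f : X ⟶ Y) (W : EtOver X) (E : EtOver Y) : Type u :=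
  {φ : W.obj.left ⟶ E.obj.left // (yon S).map φ ≫ E.obj.hom = W.obj.hom ≫ f}

variable {W W' W'' : EtOver X} {E E' E'' : EtOver Y}

/-- Precomposition. -/
def Lk.pre (k : W' ⟶ W) (φ : Lk f W E) : Lk f W' E :=
  ⟨k.hom.left ≫ φ.1, by rw [Functor.map_comp, Category.assoc, φ.2, ← Category.assoc, CostructuredArrow.w k.hom]⟩

/-- Postcomposition. -/
def Lk.post (φ : Lk f W E) (h : E ⟶ E') : Lk f W E' :=
  ⟨φ.1 ≫ h.hom.left, by rw [Functor.map_comp, Category.assoc, CostructuredArrow.w h.hom, φ.2]⟩

theorem Lk.pre_id (φ : Lk f W E) : φ.pre (𝟙 W) = φ := Subtype.ext (Category.id_comp _)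

theorem Lk.post_id (φ : Lk f W E) : φ.post (𝟙 E) = φ := Subtype.ext (Category.comp_id _)

theorem Lk.pre_pre (k : W'' ⟶ W') (k' : W' ⟶ W) (φ : Lk f W E) : (φ.pre k').pre k = φ.pre (k ≫ k') :=
  Subtype.ext (Category.assoc _ _ _).symm

theorem Lk.post_post (φ : Lk f W E) (h : E ⟶ E') (h' : E' ⟶ E'') : (φ.post h).post h' = φ.post (h ≫ h') :=
  Subtype.ext (Category.assoc _ _ _)

theorem Lk.pre_post (k : W' ⟶ W) (φ : Lk f W E) (h : E ⟶ E') : (φ.post h).pre k = (φ.pre k).post h :=
  Subtype.ext (Category.assoc _ _ _).symm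

/-- Pullback of functions. -/
noncomputable def ap (φ : Lk f W E) : Γo E →+* Γo W := φ.1.left.appTop.hom

theorem ap_pre (k : W' ⟶ W) (φ : Lk f W E) (r : Γo E) : ap (φ.pre k) r = γ k (ap φ r) := by
  change (k.hom.left.left ≫ φ.1.left).appTop.hom r = _
  rw [Scheme.Hom.comp_appTop]
  rfl

theorem ap_post (φ : Lk f W E) (h : E ⟶ E') (r : Γo E') : ap (φ.post h) r = ap φ (γ h r) := by
  change (φ.1.left ≫ h.hom.left.left).appTop.hom r = _
  rw [Scheme.Hom.comp_appTop]
  rfl

/-- Functions on the source as an algebra over functions on the target. -/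
def TwP (_φ : Lk f W E) : Type u := Γo W

noncomputable instance (φ : Lk f W E) : CommRing (TwP φ) := inferInstanceAs (CommRing (Γo W))

noncomputable instance (φ : Lk f W E) : Algebra (Γo E) (TwP φ) := (ap φ).toAlgebra

noncomputable instance (φ : Lk f W E) : Module (Γo W) (TwP φ) := inferInstanceAs (Module (Γo W) (Γo W))

instance (φ : Lk f W E) : SMulCommClass (Γo E) (Γo W) (TwP φ) :=
  ⟨fun a b c => by
    let c₀ : Γo W := c
    change ap φ a * (b * c₀) = b * (ap φ a * c₀)
    ring⟩

/-- Regard a function as an element of `TwP φ`. -/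
def TwP.mk (φ : Lk f W E) (a : Γo W) : TwP φ := a

/-- The function underlying an element of `TwP φ`. -/
def TwP.out {φ : Lk f W E} (a : TwP φ) : Γo W := a

variable (G : ModEt Y)

/-- `Γ(W) ⊗ G(E)`. -/
abbrev Ten (φ : Lk f W E) : Type (u + 1) := TwP φ ⊗[Γo E] sectModEt G E

variable {G}

/-- Pullback of functions between twisted copies. -/
noncomputable def mapTwP (k : W' ⟶ W) {φ : Lk f W E} {φ' : Lk f W' E} (e : φ.pre k = φ') :
    TwP φ →ₗ[Γo E] TwP φ' where
  toFun a := γ k (TwP.out a)
  map_add' a b := map_add (γ k) (TwP.out a) (TwP.out b)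
  map_smul' r a := by
    change γ k (ap φ r * TwP.out a) = ap φ' r * γ k (TwP.out a)
    rw [map_mul, ← e, ap_pre]

/-- Restriction. -/
noncomputable def resT (k : W' ⟶ W) {φ : Lk f W E} {φ' : Lk f W' E} (e : φ.pre k = φ') :
    Ten G φ →+ Ten G φ' :=
  ((mapTwP k e).rTensor (sectModEt G E)).toAddMonoidHom

theorem resT_tmul (k : W' ⟶ W) {φ : Lk f W E} {φ' : Lk f W' E} (e : φ.pre k = φ') (c : TwP φ) (g : sectModEt G E) :
    resT k e (c ⊗ₜ g) = TwP.mk φ' (γ k (TwP.out c)) ⊗ₜ g := rfl

theorem resT_smul (k : W' ⟶ W) {φ : Lk f W E} {φ' : Lk f W' E} (e : φ.pre k = φ') (a : Γo W) (x : Ten G φ) :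
    resT k e (a • x) = γ k a • resT k e x := by
  induction x using TensorProduct.induction_on with
  | zero => simp
  | tmul c g =>
    rw [TensorProduct.smul_tmul', resT_tmul, resT_tmul, TensorProduct.smul_tmul']
    congr 1
    exact map_mul (γ k) a (TwP.out c)
  | add x y hx hy => simp only [smul_add, map_add, hx, hy]

/-- Change of the target. -/
noncomputable def chT (h : E' ⟶ E) {φ : Lk f W E} {φ' : Lk f W E'} (e : φ'.post h = φ) : Ten G φ →+ Ten G φ' :=
  TensorProduct.liftAddHom
    { toFun := fun c =>
        { toFun := fun g => TwP.mk φ' (TwP.out c) ⊗ₜ res G h g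
          map_zero' := by rw [map_zero, TensorProduct.tmul_zero]
          map_add' := fun g g' => by rw [map_add, TensorProduct.tmul_add] }
      map_zero' := AddMonoidHom.ext fun g => TensorProduct.zero_tmul _ _
      map_add' := fun c c' => AddMonoidHom.ext fun g => TensorProduct.add_tmul (TwP.mk φ' (TwP.out c)) (TwP.mk φ' (TwP.out c')) _ }
    fun r c g => by
      change TwP.mk φ' (ap φ r * TwP.out c) ⊗ₜ[Γo E'] res G h g = TwP.mk φ' (TwP.out c) ⊗ₜ[Γo E'] res G h (r • g)
      rw [res_smul, TensorProduct.tmul_smul, TensorProduct.smul_tmul']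
      congr 1
      change ap φ r * TwP.out c = ap φ' (γ h r) * TwP.out c
      rw [← e, ap_post]

theorem chT_tmul (h : E' ⟶ E) {φ : Lk f W E} {φ' : Lk f W E'} (e : φ'.post h = φ) (c : TwP φ) (g : sectModEt G E) :
    chT h e (c ⊗ₜ g) = TwP.mk φ' (TwP.out c) ⊗ₜ res G h g := rfl

theorem chT_smul (h : E' ⟶ E) {φ : Lk f W E} {φ' : Lk f W E'} (e : φ'.post h = φ) (a : Γo W) (x : Ten G φ) :
    chT h e (a • x) = a • chT h e x := by
  induction x using TensorProduct.induction_on with
  | zero => simp
  | tmul c g => rw [TensorProduct.smul_tmul', chT_tmul, chT_tmul, TensorProduct.smul_tmul']; rfl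
  | add x y hx hy => simp only [smul_add, map_add, hx, hy]

theorem resT_resT (k : W'' ⟶ W') (k' : W' ⟶ W) {φ : Lk f W E} {φ' : Lk f W' E} {φ'' : Lk f W'' E}
    (e' : φ.pre k' = φ') (e : φ'.pre k = φ'') (x : Ten G φ) :
    resT k e (resT k' e' x) = resT (k ≫ k') (by rw [← Lk.pre_pre, e', e]) x := by
  induction x using TensorProduct.induction_on with
  | zero => simp
  | tmul c g =>
    rw [resT_tmul, resT_tmul, resT_tmul]
    congr 1
  | add x y hx hy => simp only [map_add, hx, hy]

theorem resT_id {φ : Lk f W E} (e : φ.pre (𝟙 W) = φ) (x : Ten G φ) : resT (𝟙 W) e x = x := by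
  induction x using TensorProduct.induction_on with
  | zero => simp
  | tmul c g => rfl
  | add x y hx hy => simp only [map_add, hx, hy]

theorem chT_chT (h : E'' ⟶ E') (h' : E' ⟶ E) {φ : Lk f W E} {φ' : Lk f W E'} {φ'' : Lk f W E''}
    (e' : φ'.post h' = φ) (e : φ''.post h = φ') (x : Ten G φ) :
    chT h e (chT h' e' x) = chT (h ≫ h') (by rw [← Lk.post_post, e, e']) x := by
  induction x using TensorProduct.induction_on with
  | zero => simp
  | tmul c g => rw [chT_tmul, chT_tmul, chT_tmul, res_comp]; rfl
  | add x y hx hy => simp only [map_add, hx, hy]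

theorem chT_id {φ : Lk f W E} (e : φ.post (𝟙 E) = φ) (x : Ten G φ) : chT (𝟙 E) e x = x := by
  induction x using TensorProduct.induction_on with
  | zero => simp
  | tmul c g => rw [chT_tmul, res_id]; rfl
  | add x y hx hy => simp only [map_add, hx, hy]

theorem resT_chT (k : W' ⟶ W) (h : E' ⟶ E) {φ : Lk f W E} {φ' : Lk f W E'} (e : φ'.post h = φ)
    {ψ : Lk f W' E} {ψ' : Lk f W' E'} (eψ : φ.pre k = ψ) (eψ' : φ'.pre k = ψ') (x : Ten G φ) :
    resT k eψ' (chT h e x) = chT h (by rw [← eψ', ← Lk.pre_post, e, eψ]) (resT k eψ x) := by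
  induction x using TensorProduct.induction_on with
  | zero => simp
  | tmul c g => rfl
  | add x y hx hy => simp only [map_add, hx, hy]

/-- Change of the target is bijective when the module is compatible with base change. -/
theorem chT_bijective (h : E' ⟶ E) (hG : BC G h) {φ : Lk f W E} {φ' : Lk f W E'} (e : φ'.post h = φ) :
    Function.Bijective (chT (G := G) h e) := by
  let L := AddEquiv.ofBijective _ hG
  let inner : Γo W → (Tw h ⊗[Γo E] sectModEt G E →+ Ten G φ) := fun c =>
    TensorProduct.liftAddHom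
      { toFun := fun a =>
          { toFun := fun g => TwP.mk φ (c * ap φ' (Tw.out a)) ⊗ₜ g
            map_zero' := TensorProduct.tmul_zero _ _
            map_add' := fun g g' => TensorProduct.tmul_add _ _ _ }
        map_zero' := AddMonoidHom.ext fun g => by
          change TwP.mk φ (c * ap φ' (0 : Γo E')) ⊗ₜ[Γo E] g = 0
          rw [map_zero, mul_zero]
          exact TensorProduct.zero_tmul _ _
        map_add' := fun a a' => AddMonoidHom.ext fun g => by
          change TwP.mk φ (c * ap φ' (Tw.out a + Tw.out a')) ⊗ₜ[Γo E] g = _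
          rw [map_add, mul_add]
          exact TensorProduct.add_tmul (TwP.mk φ _) (TwP.mk φ _) _ }
      fun r a g => by
        change TwP.mk φ (c * ap φ' (γ h r * Tw.out a)) ⊗ₜ[Γo E] g = TwP.mk φ (c * ap φ' (Tw.out a)) ⊗ₜ[Γo E] (r • g)
        rw [TensorProduct.tmul_smul, TensorProduct.smul_tmul', map_mul, ← ap_post, e]
        congr 1
        change c * (ap φ r * ap φ' (Tw.out a)) = ap φ r * (c * ap φ' (Tw.out a))
        ring
  have inner_add : ∀ c c' z, inner (c + c') z = inner c z + inner c' z := fun c c' z => by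
    induction z using TensorProduct.induction_on with
    | zero => simp
    | tmul a g =>
      change TwP.mk φ ((c + c') * ap φ' (Tw.out a)) ⊗ₜ[Γo E] g = _
      rw [add_mul]
      exact TensorProduct.add_tmul (TwP.mk φ _) (TwP.mk φ _) _
    | add x y hx hy => simp only [map_add, hx, hy]; abel
  have inner_smul : ∀ (r : Γo E') c z, inner (ap φ' r * c) z = inner c (r • z) := fun r c z => by
    induction z using TensorProduct.induction_on with
    | zero => simp
    | tmul a g =>
      rw [TensorProduct.smul_tmul']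
      change TwP.mk φ (ap φ' r * c * ap φ' (Tw.out a)) ⊗ₜ[Γo E] g = TwP.mk φ (c * ap φ' (r * Tw.out a)) ⊗ₜ[Γo E] g
      congr 1
      rw [map_mul]
      change ap φ' r * c * ap φ' (Tw.out a) = c * (ap φ' r * ap φ' (Tw.out a))
      ring
    | add x y hx hy => simp only [smul_add, map_add, hx, hy]
  let inv : Ten G φ' →+ Ten G φ :=
    TensorProduct.liftAddHom
      { toFun := fun c => (inner (TwP.out c)).comp L.symm.toAddMonoidHom
        map_zero' := AddMonoidHom.ext fun x => by
          have h0 := inner_add 0 0 (L.symm x)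
          rw [add_zero, left_eq_add] at h0
          exact h0
        map_add' := fun c c' => AddMonoidHom.ext fun x => inner_add _ _ _ }
      fun r c x => by
        change inner (ap φ' r * TwP.out c) (L.symm x) = inner (TwP.out c) (L.symm (r • x))
        rw [inner_smul]
        congr 1
        refine L.injective ?_
        rw [AddEquiv.apply_symm_apply]
        change lift h LinearMap.id (r • L.symm x) = r • x
        rw [lift_smul]
        exact congrArg (r • ·) (L.apply_symm_apply x)
  refine Function.bijective_iff_has_inverse.2 ⟨inv, fun x => ?_, fun y => ?_⟩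
  · induction x using TensorProduct.induction_on with
    | zero => simp
    | tmul c g =>
      rw [chT_tmul]
      change inner (TwP.out c) (L.symm (res G h g)) = _
      rw [show L.symm (res G h g) = (1 : Tw h) ⊗ₜ g from L.injective (by
        rw [AddEquiv.apply_symm_apply]; exact (lift_one_tmul h LinearMap.id g).symm)]
      change TwP.mk φ (TwP.out c * ap φ' (1 : Γo E')) ⊗ₜ[Γo E] g = _
      rw [map_one, mul_one]
      rfl
    | add x y hx hy => simp only [map_add, hx, hy]
  · induction y using TensorProduct.induction_on with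
    | zero => simp
    | tmul c x =>
      obtain ⟨z, rfl⟩ := L.surjective x
      change chT h e (inner (TwP.out c) (L.symm (L z))) = c ⊗ₜ L z
      rw [AddEquiv.symm_apply_apply]
      induction z using TensorProduct.induction_on with
      | zero => simp
      | tmul a g =>
        change chT h e (TwP.mk φ (TwP.out c * ap φ' (Tw.out a)) ⊗ₜ g) = c ⊗ₜ (Tw.out a • res G h g)
        rw [chT_tmul, TensorProduct.tmul_smul, TensorProduct.smul_tmul']
        congr 1
        change TwP.out c * ap φ' (Tw.out a) = ap φ' (Tw.out a) * TwP.out c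
        ring
      | add x y hx hy => simp only [map_add, TensorProduct.tmul_add, hx, hy]
    | add x y hx hy => simp only [map_add, hx, hy]

/-- Restriction to an object as a base change map. -/
noncomputable def combT (k : W' ⟶ W) {φ : Lk f W E} {φ' : Lk f W' E} (e : φ.pre k = φ') :
    Tw k ⊗[Γo W] Ten G φ →+ Ten G φ' :=
  TensorProduct.liftAddHom
    { toFun := fun c =>
        { toFun := fun x => Tw.out c • resT k e x
          map_zero' := by rw [map_zero, smul_zero]
          map_add' := fun x y => by rw [map_add, smul_add] }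
      map_zero' := AddMonoidHom.ext fun x => zero_smul (Γo W') _
      map_add' := fun a b => AddMonoidHom.ext fun x => add_smul (Tw.out a) (Tw.out b) _ }
    fun r c x => by
      change (γ k r * Tw.out c) • resT k e x = Tw.out c • resT k e (r • x)
      rw [resT_smul, smul_smul, mul_comm]

theorem combT_one (k : W' ⟶ W) {φ : Lk f W E} {φ' : Lk f W' E} (e : φ.pre k = φ') (x : Ten G φ) :
    combT k e ((1 : Tw k) ⊗ₜ x) = resT k e x := one_smul (Γo W') _

theorem combT_bijective (k : W' ⟶ W) {φ : Lk f W E} {φ' : Lk f W' E} (e : φ.pre k = φ') :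
    Function.Bijective (combT (G := G) k e) := by
  let inv : Ten G φ' →+ Tw k ⊗[Γo W] Ten G φ :=
    TensorProduct.liftAddHom
      { toFun := fun c =>
          { toFun := fun g => Tw.mk k (TwP.out c) ⊗ₜ ((1 : TwP φ) ⊗ₜ g)
            map_zero' := by rw [TensorProduct.tmul_zero, TensorProduct.tmul_zero]
            map_add' := fun g g' => by rw [TensorProduct.tmul_add, TensorProduct.tmul_add] }
        map_zero' := AddMonoidHom.ext fun g => TensorProduct.zero_tmul _ _
        map_add' := fun c c' => AddMonoidHom.ext fun g =>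
          TensorProduct.add_tmul (Tw.mk k (TwP.out c)) (Tw.mk k (TwP.out c')) _ }
      fun r c g => by
        change Tw.mk k (ap φ' r * TwP.out c) ⊗ₜ[Γo W] ((1 : TwP φ) ⊗ₜ[Γo E] g) =
          Tw.mk k (TwP.out c) ⊗ₜ[Γo W] ((1 : TwP φ) ⊗ₜ[Γo E] (r • g))
        rw [TensorProduct.tmul_smul, show r • ((1 : TwP φ) ⊗ₜ[Γo E] g) = ap φ r • ((1 : TwP φ) ⊗ₜ[Γo E] g) from rfl,
          TensorProduct.tmul_smul, TensorProduct.smul_tmul']
        congr 1
        change ap φ' r * TwP.out c = γ k (ap φ r) * TwP.out c
        rw [← e, ap_pre]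
  refine Function.bijective_iff_has_inverse.2 ⟨inv, fun z => ?_, fun y => ?_⟩
  · induction z using TensorProduct.induction_on with
    | zero => simp
    | tmul c x =>
      induction x using TensorProduct.induction_on with
      | zero => simp
      | tmul d g =>
        change inv (Tw.out c • resT k e (d ⊗ₜ g)) = _
        rw [resT_tmul, TensorProduct.smul_tmul']
        change Tw.mk k (Tw.out c * γ k (TwP.out d)) ⊗ₜ[Γo W] ((1 : TwP φ) ⊗ₜ[Γo E] g) = c ⊗ₜ[Γo W] (d ⊗ₜ[Γo E] g)
        rw [show d ⊗ₜ[Γo E] g = TwP.out d • ((1 : TwP φ) ⊗ₜ[Γo E] g) by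
          rw [TensorProduct.smul_tmul']; congr 1; exact (mul_one (TwP.out d)).symm, TensorProduct.tmul_smul,
          TensorProduct.smul_tmul']
        congr 1
        change Tw.out c * γ k (TwP.out d) = γ k (TwP.out d) * Tw.out c
        ring
      | add x y hx hy => simp only [TensorProduct.tmul_add, map_add, hx, hy]
    | add x y hx hy => simp only [map_add, hx, hy]
  · induction y using TensorProduct.induction_on with
    | zero => simp
    | tmul c g =>
      change TwP.out c • resT k e ((1 : TwP φ) ⊗ₜ g) = _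
      rw [resT_tmul, TensorProduct.smul_tmul']
      congr 1
      change TwP.out c * γ k (1 : Γo W) = TwP.out c
      rw [map_one, mul_one]
    | add x y hx hy => simp only [map_add, hx, hy]

end Groth.Agent.QcohEt15.Pull
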