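import Groth.Agent.Lib.QcohEt15.Pull.Glue

/-!
# Comparing the tensor products attached to two maps
-/

universe u v

set_option backward.isDefEq.respectTransparency false

open CategoryTheory CategoryTheory.Limits AlgebraicGeometry Opposite TensorProduct

namespace Groth.Agent.QcohEt15.Pull

open AlgSp

variable {S : Scheme.{u}} {X Y : Sp S} {f : X ⟶ Y}

theorem Lk.w' {W : EtOver X} {E : EtOver Y} (φ : Lk f W E) : (yon S).map φ.1 ≫ E.obj.hom = W.obj.hom ≫ f := φ.2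

/-- The map to a product. -/
noncomputable def Lk.prod {W : EtOver X} {E₁ E₂ : EtOver Y} (φ₁ : Lk f W E₁) (φ₂ : Lk f W E₂) :
    Lk f W (EtOver.prodObj E₁ E₂) :=
  ⟨E₂.property.1.lift' φ₂.1 φ₁.1 (φ₂.2.trans φ₁.2.symm), by
    change (yon S).map _ ≫ (yon S).map _ ≫ E₁.obj.hom = _
    rw [← Category.assoc, ← Functor.map_comp, Functor.relativelyRepresentable.lift'_snd]
    exact φ₁.2⟩

theorem Lk.prod_fst {W : EtOver X} {E₁ E₂ : EtOver Y} (φ₁ : Lk f W E₁) (φ₂ : Lk f W E₂) :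
    (φ₁.prod φ₂).post (EtOver.prodFst E₁ E₂) = φ₁ :=
  Subtype.ext (Functor.relativelyRepresentable.lift'_snd _ _ _ _)

theorem Lk.prod_snd {W : EtOver X} {E₁ E₂ : EtOver Y} (φ₁ : Lk f W E₁) (φ₂ : Lk f W E₂) :
    (φ₁.prod φ₂).post (EtOver.prodSnd E₁ E₂) = φ₂ :=
  Subtype.ext (Functor.relativelyRepresentable.lift'_fst _ _ _ _)

theorem Lk.prod_ext {W : EtOver X} {E₁ E₂ : EtOver Y} {a b : Lk f W (EtOver.prodObj E₁ E₂)}
    (h₁ : a.post (EtOver.prodFst E₁ E₂) = b.post (EtOver.prodFst E₁ E₂))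
    (h₂ : a.post (EtOver.prodSnd E₁ E₂) = b.post (EtOver.prodSnd E₁ E₂)) : a = b :=
  Subtype.ext (Functor.relativelyRepresentable.hom_ext' _ (congrArg Subtype.val h₂) (congrArg Subtype.val h₁))

theorem exists_lk_pullback {W : EtOver X} {E₁ E₂ P : EtOver Y} (g₁ : E₁ ⟶ P) (g₂ : E₂ ⟶ P) (φ₁ : Lk f W E₁)
    (φ₂ : Lk f W E₂) (e : φ₁.post g₁ = φ₂.post g₂) : ∃ φ : Lk f W (EtOver.pullbackObj g₁ g₂),
      φ.post (EtOver.pullbackFst g₁ g₂) = φ₁ ∧ φ.post (EtOver.pullbackSnd g₁ g₂) = φ₂ := by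
  refine ⟨⟨pullback.lift φ₁.1 φ₂.1 (congrArg Subtype.val e), ?_⟩, Subtype.ext (pullback.lift_fst _ _ _),
    Subtype.ext (pullback.lift_snd _ _ _)⟩
  change (yon S).map _ ≫ (yon S).map _ ≫ E₁.obj.hom = _
  rw [← Category.assoc, ← Functor.map_comp, pullback.lift_fst]
  exact φ₁.2

/-- Near each point, a map into an object over `Y` factors through an affine object. -/
theorem exists_affine_nhd_lk {W : EtOver X} {P : EtOver Y} (φ : Lk f W P) (w : ↥W.obj.left.left) :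
    ∃ (Z : EtOver X) (_ : IsAffine Z.obj.left.left) (l : Z ⟶ W) (V : EtOver Y) (_ : IsAffine V.obj.left.left)
      (j : V ⟶ P) (ψ : Lk f Z V), w ∈ Set.range l.hom.left.left ∧ ψ.post j = φ.pre l := by
  obtain ⟨O, hO, hwO, -⟩ := P.obj.left.left.isBasis_affineOpens.exists_subset_of_mem_open
    (Set.mem_univ (φ.1.left w)) isOpen_univ
  obtain ⟨O, hO', rfl⟩ := hO
  obtain ⟨V, hV, hwV, hVO⟩ := W.obj.left.left.isBasis_affineOpens.exists_subset_of_mem_open
    (show w ∈ ((φ.1.left ⁻¹ᵁ O : W.obj.left.left.Opens) : Set ↥W.obj.left.left) from hwO) (φ.1.left ⁻¹ᵁ O).isOpen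
  obtain ⟨V, hV', rfl⟩ := hV
  let l := AlgSpEt14.openSubι W V
  have hr : Set.range ⇑(l.hom.left.left ≫ φ.1.left) ⊆ Set.range ⇑(Scheme.Opens.ι O) := by
    rintro _ ⟨v, rfl⟩
    rw [Scheme.Opens.range_ι]
    exact hVO ((AlgSpEt14.range_openSubι W V).le ⟨v, rfl⟩)
  let ψ₀ : (AlgSpEt14.openSub W V).obj.left ⟶ (AlgSpEt14.openSub P O).obj.left :=
    Over.homMk (IsOpenImmersion.lift (Scheme.Opens.ι O) (l.hom.left.left ≫ φ.1.left) hr) (by
      change _ ≫ Scheme.Opens.ι O ≫ P.obj.left.hom = _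
      rw [IsOpenImmersion.lift_fac_assoc, Category.assoc, Over.w φ.1]
      exact Over.w l.hom.left)
  have h₀ : ψ₀ ≫ (AlgSpEt14.openSubι P O).hom.left = l.hom.left ≫ φ.1 :=
    Over.OverMorphism.ext (IsOpenImmersion.lift_fac _ _ _)
  let ψ : Lk f (AlgSpEt14.openSub W V) (AlgSpEt14.openSub P O) := ⟨ψ₀, by
    rw [← EtOver.w (AlgSpEt14.openSubι P O), ← Category.assoc, ← Functor.map_comp, h₀]
    exact (φ.pre l).2⟩
  exact ⟨AlgSpEt14.openSub W V, hV', l, AlgSpEt14.openSub P O, hO', AlgSpEt14.openSubι P O, ψ,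
    (AlgSpEt14.range_openSubι W V).ge hwV, Subtype.ext h₀⟩

variable {G : ModEt Y}

theorem resT_congr {W W' : EtOver X} {E : EtOver Y} {φ : Lk f W E} {φ' : Lk f W' E} {k k' : W' ⟶ W}
    (e : φ.pre k = φ') (hk : k = k') (x : Ten G φ) : resT k e x = resT k' (hk ▸ e) x := by
  subst hk; rfl

theorem chT_congr {W : EtOver X} {E E' : EtOver Y} {φ : Lk f W E} {φ' : Lk f W E'} {h h' : E' ⟶ E}
    (e : φ'.post h = φ) (hh : h = h') (x : Ten G φ) : chT h e x = chT h' (hh ▸ e) x := by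
  subst hh; rfl

theorem combT_rTensor {W Y' Z : EtOver X} {E : EtOver Y} {φ : Lk f W E} (k : Y' ⟶ W) (l : Z ⟶ Y')
    (z : Tw k ⊗[Γo W] Ten G φ) :
    combT (l ≫ k) rfl ((mapTw (g := k) l rfl).rTensor (Ten G φ) z) =
      resT l (Lk.pre_pre l k φ) (combT k rfl z) := by
  induction z using TensorProduct.induction_on with
  | zero => simp
  | tmul c x =>
    change γ l (Tw.out c) • resT (l ≫ k) rfl x = resT l _ (Tw.out c • resT k rfl x)
    rw [resT_smul, resT_resT]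
  | add x y hx hy => simp only [map_add, hx, hy]

/-- Separatedness. -/
theorem sepT {W : EtOver X} [IsAffine W.obj.left.left] {E : EtOver Y} {φ : Lk f W E} {ι : Type*} (Z : ι → EtOver X)
    [∀ i, IsAffine (Z i).obj.left.left] (l : ∀ i, Z i ⟶ W)
    (h : ∀ w : ↥W.obj.left.left, ∃ i, w ∈ Set.range (l i).hom.left.left) {x y : Ten G φ}
    (e : ∀ i, resT (l i) rfl x = resT (l i) rfl y) : x = y := by
  refine sub_eq_zero.1 (eq_zero_of_local_one (x - y) (Sieve.generate (Presieve.ofArrows Z l))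
    (ofArrows_mem_etTop Z l h) fun T _ m hm => (combT_bijective m (rfl : φ.pre m = _)).1 ?_)
  obtain ⟨T', a, b, ⟨i⟩, rfl⟩ := hm
  rw [map_zero, combT_one, ← resT_resT a (l i) rfl (Lk.pre_pre a (l i) φ), map_sub, e i, sub_self, map_zero]

/-- Gluing. -/
theorem glueT {W : EtOver X} [IsAffine W.obj.left.left] {E : EtOver Y} (φ : Lk f W E) (R : Sieve W) (hR : R ∈ etTop X W)
    (x : ∀ ⦃Z : EtOver X⦄ [IsAffine Z.obj.left.left] (k : Z ⟶ W), R k → Ten G (φ.pre k))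
    (hx : ∀ ⦃Z Z' : EtOver X⦄ [IsAffine Z.obj.left.left] [IsAffine Z'.obj.left.left] (k : Z ⟶ W) (hk : R k)
      (l : Z' ⟶ Z), resT l (Lk.pre_pre l k φ) (x k hk) = x (l ≫ k) (R.downward_closed hk l)) :
    ∃ y : Ten G φ, ∀ ⦃Z : EtOver X⦄ [IsAffine Z.obj.left.left] (k : Z ⟶ W) (hk : R k), resT k rfl y = x k hk := by
  obtain ⟨y, hy⟩ := exists_descend R hR
    (fun Z _ k hk => (AddEquiv.ofBijective _ (combT_bijective k (rfl : φ.pre k = _))).symm (x k hk))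
    fun Z Z' _ _ k hk l => (combT_bijective (l ≫ k) (rfl : φ.pre (l ≫ k) = _)).1 (by
      rw [combT_rTensor]
      refine (congrArg _ (AddEquiv.apply_symm_apply (AddEquiv.ofBijective _
        (combT_bijective k (rfl : φ.pre k = _))) _)).trans ?_
      exact (hx k hk l).trans (AddEquiv.apply_symm_apply (AddEquiv.ofBijective _
        (combT_bijective (l ≫ k) (rfl : φ.pre (l ≫ k) = _))) _).symm)
  refine ⟨y, fun Z _ k hk => ?_⟩
  rw [← combT_one k rfl y, hy k hk]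
  exact AddEquiv.apply_symm_apply (AddEquiv.ofBijective _ (combT_bijective k (rfl : φ.pre k = _))) _

/-! ### The comparison -/

variable {W : EtOver X} {E E' : EtOver Y}

/-- `x` and `x'` correspond: they agree whenever both maps factor through a common affine object. -/
def Rel (φ : Lk f W E) (φ' : Lk f W E') (x : Ten G φ) (x' : Ten G φ') : Prop :=
  ∀ (Z : EtOver X) (_ : IsAffine Z.obj.left.left) (k : Z ⟶ W) (V : EtOver Y) (_ : IsAffine V.obj.left.left)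
    (ψ : Lk f Z V) (p : V ⟶ E) (q : V ⟶ E') (e : ψ.post p = φ.pre k) (e' : ψ.post q = φ'.pre k),
    chT p e (resT k rfl x) = chT q e' (resT k rfl x')

variable (hG : ∀ (V : EtOver Y) [IsAffine V.obj.left.left], Good G V)

theorem Rel.res {φ : Lk f W E} {φ' : Lk f W E'} {x : Ten G φ} {x' : Ten G φ'} (h : Rel φ φ' x x') {W' : EtOver X}
    (l : W' ⟶ W) {χ : Lk f W' E} {χ' : Lk f W' E'} (e : φ.pre l = χ) (e' : φ'.pre l = χ') :
    Rel χ χ' (resT l e x) (resT l e' x') := by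
  intro Z hZ k V hV ψ p q ep eq
  subst e e'
  rw [resT_resT, resT_resT]
  exact h Z hZ (k ≫ l) V hV ψ p q (ep.trans (Lk.pre_pre _ _ _)) (eq.trans (Lk.pre_pre _ _ _))

theorem Rel.symm {φ : Lk f W E} {φ' : Lk f W E'} {x : Ten G φ} {x' : Ten G φ'} (h : Rel φ φ' x x') :
    Rel φ' φ x' x :=
  fun Z hZ k V hV ψ p q e e' => (h Z hZ k V hV ψ q p e' e).symm

theorem Rel.add {φ : Lk f W E} {φ' : Lk f W E'} {x y : Ten G φ} {x' y' : Ten G φ'} (h : Rel φ φ' x x')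
    (h' : Rel φ φ' y y') : Rel φ φ' (x + y) (x' + y') :=
  fun Z hZ k V hV ψ p q e e' => by simp only [map_add, h Z hZ k V hV ψ p q e e', h' Z hZ k V hV ψ p q e e']

theorem Rel.smul {φ : Lk f W E} {φ' : Lk f W E'} {x : Ten G φ} {x' : Ten G φ'} (h : Rel φ φ' x x') (a : Γo W) :
    Rel φ φ' (a • x) (a • x') :=
  fun Z hZ k V hV ψ p q e e' => by rw [resT_smul, resT_smul, chT_smul, chT_smul, h Z hZ k V hV ψ p q e e']

theorem exists_link (φ : Lk f W E) (φ' : Lk f W E') (w : ↥W.obj.left.left) :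
    ∃ (Z : EtOver X) (_ : IsAffine Z.obj.left.left) (l : Z ⟶ W) (V : EtOver Y) (_ : IsAffine V.obj.left.left)
      (ψ : Lk f Z V) (p : V ⟶ E) (q : V ⟶ E'),
      w ∈ Set.range l.hom.left.left ∧ ψ.post p = φ.pre l ∧ ψ.post q = φ'.pre l := by
  obtain ⟨Z, hZ, l, V, hV, j, ψ, hw, e⟩ := exists_affine_nhd_lk (φ.prod φ') w
  refine ⟨Z, hZ, l, V, hV, ψ, j ≫ EtOver.prodFst E E', j ≫ EtOver.prodSnd E E', hw, ?_, ?_⟩
  · rw [← Lk.post_post, e, ← Lk.pre_post, Lk.prod_fst]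
  · rw [← Lk.post_post, e, ← Lk.pre_post, Lk.prod_snd]

include hG in
/-- Agreement in one factorization implies correspondence. -/
theorem rel_of_link [IsAffine E'.obj.left.left] {φ : Lk f W E} {φ' : Lk f W E'} {V : EtOver Y}
    [IsAffine V.obj.left.left] (ψ : Lk f W V) (p : V ⟶ E) (q : V ⟶ E') (e : ψ.post p = φ) (e' : ψ.post q = φ')
    {x : Ten G φ} {x' : Ten G φ'} (h : chT p e x = chT q e' x') : Rel φ φ' x x' := by
  intro Z hZ k V₂ hV₂ ψ₂ p₂ q₂ e₂ e₂'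
  have h₁ : chT p (by rw [← Lk.pre_post, e]) (resT k rfl x) =
      chT q (by rw [← Lk.pre_post, e']) (resT k rfl x') := by
    rw [← resT_chT k p e rfl rfl x, h, resT_chT k q e' rfl rfl x']
  let u₁ : V ⟶ EtOver.prodObj E E' := (EtOver.prodIsLimit E E').lift (BinaryFan.mk p q)
  let u₂ : V₂ ⟶ EtOver.prodObj E E' := (EtOver.prodIsLimit E E').lift (BinaryFan.mk p₂ q₂)
  have a₁ : u₁ ≫ EtOver.prodFst E E' = p := (EtOver.prodIsLimit E E').fac (BinaryFan.mk p q) ⟨.left⟩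
  have b₁ : u₁ ≫ EtOver.prodSnd E E' = q := (EtOver.prodIsLimit E E').fac (BinaryFan.mk p q) ⟨.right⟩
  have a₂ : u₂ ≫ EtOver.prodFst E E' = p₂ := (EtOver.prodIsLimit E E').fac (BinaryFan.mk p₂ q₂) ⟨.left⟩
  have b₂ : u₂ ≫ EtOver.prodSnd E E' = q₂ := (EtOver.prodIsLimit E E').fac (BinaryFan.mk p₂ q₂) ⟨.right⟩
  have hu : (ψ.pre k).post u₁ = ψ₂.post u₂ := Lk.prod_ext
    (by rw [Lk.post_post, Lk.post_post, a₁, a₂, ← Lk.pre_post, e, e₂])
    (by rw [Lk.post_post, Lk.post_post, b₁, b₂, ← Lk.pre_post, e', e₂'])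
  obtain ⟨χ, hχ₁, hχ₂⟩ := exists_lk_pullback u₁ u₂ (ψ.pre k) ψ₂ hu
  choose T hT l V₃ hV₃ j χ' hzl ej using fun z : ↥Z.obj.left.left => exists_affine_nhd_lk χ z
  refine sepT T l (fun z => ⟨z, hzl z⟩) fun z => ?_
  have := hT z
  have := hV₃ z
  let r₁ : V₃ z ⟶ V := j z ≫ EtOver.pullbackFst u₁ u₂
  let r₂ : V₃ z ⟶ V₂ := j z ≫ EtOver.pullbackSnd u₁ u₂
  have er₁ : (χ' z).post r₁ = (ψ.pre k).pre (l z) := by rw [← Lk.post_post, ej, ← Lk.pre_post, hχ₁]
  have er₂ : (χ' z).post r₂ = ψ₂.pre (l z) := by rw [← Lk.post_post, ej, ← Lk.pre_post, hχ₂]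
  have hp : r₂ ≫ p₂ = r₁ ≫ p := by
    rw [← a₂, ← a₁, Category.assoc, Category.assoc, ← reassoc_of% (EtOver.pullback_condition u₁ u₂)]
  have hq : r₂ ≫ q₂ = r₁ ≫ q := by
    rw [← b₂, ← b₁, Category.assoc, Category.assoc, ← reassoc_of% (EtOver.pullback_condition u₁ u₂)]
  refine (chT_bijective r₂ (hG V₂ r₂) er₂).1 ?_
  rw [resT_chT (l z) p₂ e₂ rfl rfl, resT_chT (l z) q₂ e₂' rfl rfl, chT_chT, chT_chT, chT_congr _ hp,
    chT_congr _ hq]
  have ek : (ψ.pre k).post p = φ.pre k := by rw [← Lk.pre_post, e]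
  have ek' : (ψ.pre k).post q = φ'.pre k := by rw [← Lk.pre_post, e']
  have el : ((ψ.pre k).pre (l z)).post p = (φ.pre k).pre (l z) := by rw [← Lk.pre_post, ek]
  have el' : ((ψ.pre k).pre (l z)).post q = (φ'.pre k).pre (l z) := by rw [← Lk.pre_post, ek']
  rw [← chT_chT r₁ p el er₁, ← chT_chT r₁ q el' er₁, ← resT_chT (l z) p ek rfl rfl, ← resT_chT (l z) q ek' rfl rfl,
    h₁]

include hG in
theorem rel_ext [IsAffine W.obj.left.left] [IsAffine E'.obj.left.left] {φ : Lk f W E} {φ' : Lk f W E'}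
    {x : Ten G φ} {x' y' : Ten G φ'} (h : Rel φ φ' x x') (h' : Rel φ φ' x y') : x' = y' := by
  choose Z hZ l V hV ψ p q hw ep eq using fun w : ↥W.obj.left.left => exists_link φ φ' w
  refine sepT Z l (fun w => ⟨w, hw w⟩) fun w => ?_
  have := hV w
  exact (chT_bijective (q w) (hG E' (q w)) (eq w)).1
    ((h (Z w) (hZ w) (l w) (V w) (hV w) (ψ w) (p w) (q w) (ep w) (eq w)).symm.trans
      (h' (Z w) (hZ w) (l w) (V w) (hV w) (ψ w) (p w) (q w) (ep w) (eq w)))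

include hG in
theorem exists_rel [IsAffine W.obj.left.left] [IsAffine E'.obj.left.left] (φ : Lk f W E) (φ' : Lk f W E')
    (x : Ten G φ) : ∃ x' : Ten G φ', Rel φ φ' x x' := by
  let R : Sieve W :=
    { arrows := fun Z k => ∃ x' : Ten G (φ'.pre k), Rel (φ.pre k) (φ'.pre k) (resT k rfl x) x'
      downward_closed := fun {Z Z'} k ⟨x', hx'⟩ l => by
        refine ⟨resT l (Lk.pre_pre l k φ') x', ?_⟩
        have := hx'.res l (Lk.pre_pre l k φ) (Lk.pre_pre l k φ')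
        rwa [resT_resT] at this }
  choose Z hZ l V hV ψ p q hw ep eq using fun w : ↥W.obj.left.left => exists_link φ φ' w
  have hR : R ∈ etTop X W := by
    refine (etTop X).superset_covering ((Sieve.generate_le_iff _ _).2 ?_) (ofArrows_mem_etTop Z l fun w => ⟨w, hw w⟩)
    rintro T k ⟨w⟩
    have := hV w
    obtain ⟨x', hx'⟩ := (chT_bijective (q w) (hG E' (q w)) (eq w)).2 (chT (p w) (ep w) (resT (l w) rfl x))
    exact ⟨x', rel_of_link hG (ψ w) (p w) (q w) (ep w) (eq w) hx'.symm⟩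
  obtain ⟨y, hy⟩ := glueT φ' R hR (fun T _ k hk => hk.choose) fun T T' _ _ k hk l => by
    refine rel_ext hG ?_ (R.downward_closed hk l).choose_spec
    have := hk.choose_spec.res l (Lk.pre_pre l k φ) (Lk.pre_pre l k φ')
    rwa [resT_resT] at this
  refine ⟨y, fun T hT k V' hV' χ a b ea eb => ?_⟩
  let R' := R.pullback k
  choose U hU m hm hu using fun t : ↥T.obj.left.left =>
    (exists_affine_family R' ((etTop X).pullback_stable k hR)) |> fun ⟨κ, _, U, m, hU, hm, hc⟩ =>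
      (⟨U (hc t).choose, hU _, m (hc t).choose, hm _, (hc t).choose_spec⟩ :
        ∃ (U : EtOver X) (_ : IsAffine U.obj.left.left) (m : U ⟶ T), R' m ∧ t ∈ Set.range m.hom.left.left)
  refine sepT U m (fun t => ⟨t, hu t⟩) fun t => ?_
  have := hU t
  rw [resT_chT (m t) a ea rfl rfl, resT_chT (m t) b eb rfl rfl]
  have hk : R (m t ≫ k) := hm t
  have key := hk.choose_spec (U t) (hU t) (𝟙 _) V' hV' (χ.pre (m t)) a b
    (by rw [← Lk.pre_post, ea, Lk.pre_pre, Lk.pre_id]) (by rw [← Lk.pre_post, eb, Lk.pre_pre, Lk.pre_id])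
  rw [← hy (m t ≫ k) hk, resT_resT, resT_resT, resT_congr _ (Category.id_comp _),
    resT_congr _ (Category.id_comp _)] at key
  rw [resT_resT, resT_resT]
  exact key

end Groth.Agent.QcohEt15.Pull
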