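import Groth.Agent.Lib.QcohEt15.Pull.Sheaf

/-!
# The inverse image: quasi-coherence and universal property
-/

universe u v

set_option backward.isDefEq.respectTransparency false

open CategoryTheory CategoryTheory.Limits AlgebraicGeometry Opposite TensorProduct

namespace Groth.Agent.QcohEt15.Pull

open AlgSp

variable {S : Scheme.{u}} {X : Sp S}

section Eval

variable {Y : Sp S} {f : X ⟶ Y} {G : ModEt Y} (hG : ∀ (V : EtOver Y) [IsAffine V.obj.left.left], Good G V)

/-- A section of the inverse image as a compatible family. -/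
noncomputable def toSect {Z : EtOver X} (s : sectModEt (pullQ f G hG) Z) : Sect f G Z := s

/-- A compatible family as a section of the inverse image. -/
noncomputable def ofSect {Z : EtOver X} (s : Sect f G Z) : sectModEt (pullQ f G hG) Z := s

theorem toSect_smul {Z : EtOver X} (r : Γo Z) (s : sectModEt (pullQ f G hG) Z) :
    toSect hG (r • s) = r • toSect hG s := rfl

theorem toSect_res {Z Z' : EtOver X} (g : Z' ⟶ Z) (s : sectModEt (pullQ f G hG) Z) :
    toSect hG (res (pullQ f G hG) g s) = resS f G g (toSect hG s) := rfl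

omit hG in
theorem chT_resT_id {Z : EtOver X} {P P' : EtOver Y} (h : P' ⟶ P) {χ : Lk f Z P} {χ' : Lk f Z P'}
    (e : χ'.post h = χ.pre (𝟙 Z)) (x : Ten G χ) :
    chT h e (resT (𝟙 Z) rfl x) = chT h (e.trans (Lk.pre_id χ)) x := by
  induction x using TensorProduct.induction_on with
  | zero => simp
  | tmul c g => rfl
  | add x y hx hy => simp only [map_add, hx, hy]

variable {W : EtOver X} [IsAffine W.obj.left.left] {E : EtOver Y} [IsAffine E.obj.left.left] (φ : Lk f W E)

/-- The value at the tautological test object. -/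
noncomputable def evL : sectModEt (pullQ f G hG) W →ₗ[Γo W] Ten G φ where
  toFun s := (toSect hG s).val' W (𝟙 W) E φ
  map_add' s t := rfl
  map_smul' r s := by
    change γ (𝟙 W) r • _ = r • _
    rfl

include hG in
theorem exists_sect (y : Ten G φ) : ∃ s : Sect f G W,
    ∀ (T : EtOver X) [IsAffine T.obj.left.left] (a : T ⟶ W) (E' : EtOver Y) [IsAffine E'.obj.left.left]
      (φ' : Lk f T E'), Rel (φ.pre a) φ' (resT a rfl y) (s.val' T a E' φ') := by
  have hex : ∀ t : Test f W, ∃ x : Ten G t.φ, Rel (φ.pre t.a) t.φ (resT t.a rfl y) x := fun t => by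
    have := t.hW
    have := t.hE
    exact exists_rel hG _ _ _
  choose x hx using hex
  refine ⟨⟨x, fun T T' hT hT' a k E₁ E₂ hE₁ hE₂ φ₁ φ₂ => ?_⟩, fun T hT a E' hE' φ' => hx ⟨T, hT, a, E', hE', φ'⟩⟩
  have h₁ := (hx ⟨T, hT, a, E₁, hE₁, φ₁⟩).res k (Lk.pre_pre k a φ) (rfl : φ₁.pre k = _)
  rw [resT_resT] at h₁
  exact h₁.symm.trans hG (hx ⟨T', hT', k ≫ a, E₂, hE₂, φ₂⟩)

theorem evL_bijective : Function.Bijective (evL hG φ) := by
  refine ⟨fun s t e => ?_, fun y => ?_⟩
  · refine Sect.ext' fun T hT a E' hE' φ' => ?_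
    have hs := (toSect hG s).2 W T inferInstance hT (𝟙 W) a E E' inferInstance hE' φ φ'
    have ht := (toSect hG t).2 W T inferInstance hT (𝟙 W) a E E' inferInstance hE' φ φ'
    change Rel _ _ (resT a rfl (evL hG φ s)) ((toSect hG s).val' T (a ≫ 𝟙 W) E' φ') at hs
    change Rel _ _ (resT a rfl (evL hG φ t)) ((toSect hG t).val' T (a ≫ 𝟙 W) E' φ') at ht
    rw [e] at hs
    rw [Category.comp_id] at hs ht
    exact rel_ext hG hs ht
  · obtain ⟨s, hs⟩ := exists_sect hG φ y
    refine ⟨ofSect hG s, ?_⟩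
    have h := hs W (𝟙 W) E φ
    have h' : Rel φ φ y (s.val' W (𝟙 W) E φ) := by
      have := h.res (𝟙 W) (by rw [Lk.pre_id, Lk.pre_id]) (Lk.pre_id φ)
      rwa [resT_resT, resT_id, resT_congr _ (Category.id_comp _), resT_id] at this
    exact (rel_eq hG h').symm

theorem evL_res {W' : EtOver X} [IsAffine W'.obj.left.left] (k : W' ⟶ W) (s : sectModEt (pullQ f G hG) W) :
    evL hG (φ.pre k) (res (pullQ f G hG) k s) = resT k rfl (evL hG φ s) := by
  refine Eq.trans ?_ (val'_res_self hG (toSect hG s) (𝟙 W) k φ rfl (Category.comp_id k)).symm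
  change (toSect hG s).val' W' (𝟙 W' ≫ k) E (φ.pre k) = _
  rw [Category.id_comp]

theorem bc_pullQ {W' : EtOver X} [IsAffine W'.obj.left.left] (k : W' ⟶ W) (φ : Lk f W E) :
    BC (pullQ f G hG) k := by
  have h : ∀ z, evL hG (φ.pre k) (lift k LinearMap.id z) = combT k rfl ((evL hG φ).lTensor (Tw k) z) := fun z => by
    induction z using TensorProduct.induction_on with
    | zero => simp
    | tmul c s =>
      rw [lift_tmul, map_smul, LinearMap.lTensor_tmul, LinearMap.id_apply, evL_res]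
      rfl
    | add x y hx hy => simp only [map_add, hx, hy]
  have hb : Function.Bijective (evL hG (φ.pre k) ∘ lift k (LinearMap.id : sectModEt (pullQ f G hG) W →ₗ[Γo W] _)) := by
    rw [show evL hG (φ.pre k) ∘ lift k LinearMap.id = combT k rfl ∘ (evL hG φ).lTensor (Tw k) from funext h]
    exact (combT_bijective k _).comp (LinearEquiv.lTensor (Tw k) (LinearEquiv.ofBijective _ (evL_bijective hG φ))).bijective
  exact (Function.Bijective.of_comp_iff' (evL_bijective hG (φ.pre k)) _).1 hb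

include hG in
/-- Correspondence is reflexive, for an arbitrary target. -/
theorem rel_refl' {Z : EtOver X} {P : EtOver Y} (χ : Lk f Z P) (x : Ten G χ) : Rel χ χ x x := by
  intro T hT k V hV ψ p q e e'
  obtain ⟨δ, hδ₁, hδ₂⟩ := exists_lk_pullback p q ψ ψ (e.trans e'.symm)
  choose U hU l V₃ hV₃ j χ' hu ej using fun t : ↥T.obj.left.left => exists_affine_nhd_lk δ t
  refine sepT U l (fun t => ⟨t, hu t⟩) fun t => ?_
  have := hU t
  have := hV₃ t
  let r₁ : V₃ t ⟶ V := j t ≫ EtOver.pullbackFst p q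
  let r₂ : V₃ t ⟶ V := j t ≫ EtOver.pullbackSnd p q
  have er₁ : (χ' t).post r₁ = ψ.pre (l t) := by rw [← Lk.post_post, ej, ← Lk.pre_post, hδ₁]
  have er₂ : (χ' t).post r₂ = ψ.pre (l t) := by rw [← Lk.post_post, ej, ← Lk.pre_post, hδ₂]
  have hr : r₁ ≫ p = r₂ ≫ q := by rw [Category.assoc, Category.assoc, EtOver.pullback_condition]
  have er₁' : (χ' t).post r₁ = (ψ.pre (l t)).pre (𝟙 (U t)) := by rw [Lk.pre_id, er₁]
  have er₂' : (χ' t).post r₂ = (ψ.pre (l t)).pre (𝟙 (U t)) := by rw [Lk.pre_id, er₂]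
  refine (chT_bijective r₁ (hG V r₁) er₁).1 ?_
  have key := rel_refl hG (ψ.pre (l t)) (resT (l t) rfl (chT q e' (resT k rfl x))) (U t) (hU t) (𝟙 _) (V₃ t) (hV₃ t)
    (χ' t) r₁ r₂ er₁' er₂'
  rw [chT_resT_id, chT_resT_id] at key
  refine Eq.trans ?_ key.symm
  rw [resT_chT (l t) p e rfl rfl, resT_chT (l t) q e' rfl rfl, chT_chT, chT_chT, chT_congr _ hr]

end Eval

/-! ### Morphisms to base changes -/

variable {Y : Space S} {f : X ⟶ Y.obj} (hf : Representable f) {G : ModEt Y.obj}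
  (hG : ∀ (V : EtOver Y.obj) [IsAffine V.obj.left.left], Good G V)

/-- The map attached to a morphism to a base change. -/
noncomputable def lkOf {W : EtOver X} {E : EtOver Y.obj} (b : W ⟶ EtOver.bcObj hf E) : Lk f W E :=
  ⟨b.hom.left ≫ EtOver.bcπ hf E, by
    rw [Functor.map_comp, Category.assoc, ← (EtOver.isPullback_bcObj hf E).w, ← Category.assoc, EtOver.w b]⟩

/-- The morphism to a base change attached to a map. -/
noncomputable def bcLift {W : EtOver X} {E : EtOver Y.obj} (φ : Lk f W E) : W ⟶ EtOver.bcObj hf E :=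
  EtOver.homMk ((yon S).preimage ((EtOver.isPullback_bcObj hf E).lift W.obj.hom ((yon S).map φ.1) φ.2.symm)) (by
    rw [Functor.map_preimage]
    exact (EtOver.isPullback_bcObj hf E).lift_fst _ _ _)

theorem bc_hom_ext {W : EtOver X} {E : EtOver Y.obj} {b b' : W ⟶ EtOver.bcObj hf E} (h : lkOf hf b = lkOf hf b') :
    b = b' := by
  refine EtOver.hom_ext _ _ ((yon S).map_injective ((EtOver.isPullback_bcObj hf E).hom_ext ?_ ?_))
  · rw [EtOver.w b, EtOver.w b']
  · rw [← Functor.map_comp, ← Functor.map_comp]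
    exact congrArg (yon S).map (congrArg Subtype.val h)

theorem lkOf_bcLift {W : EtOver X} {E : EtOver Y.obj} (φ : Lk f W E) : lkOf hf (bcLift hf φ) = φ :=
  Subtype.ext ((yon S).map_injective (by
    change (yon S).map ((yon S).preimage _ ≫ EtOver.bcπ hf E) = _
    rw [Functor.map_comp, Functor.map_preimage]
    exact (EtOver.isPullback_bcObj hf E).lift_snd _ _ _))

theorem lkOf_comp {W W' : EtOver X} {E : EtOver Y.obj} (k : W' ⟶ W) (b : W ⟶ EtOver.bcObj hf E) :
    lkOf hf (k ≫ b) = (lkOf hf b).pre k :=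
  Subtype.ext (Category.assoc _ _ _)

theorem lkOf_bcMap {W : EtOver X} {E E' : EtOver Y.obj} (b : W ⟶ EtOver.bcObj hf E) (h : E ⟶ E') :
    lkOf hf (b ≫ EtOver.bcMap hf h) = (lkOf hf b).post h :=
  Subtype.ext (by
    change (b.hom.left ≫ (EtOver.bcMap hf h).hom.left) ≫ _ = (b.hom.left ≫ _) ≫ _
    rw [Category.assoc, Category.assoc]
    congr 1
    exact EtOver.bcMap_snd hf h)

include hf in
theorem good_pullQ (Z : EtOver X) [IsAffine Z.obj.left.left] : Good (pullQ f G hG) Z := by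
  choose E hE W hW k b hk using exists_affine_over_bc hf Z
  refine Good.of_local (Sieve.generate (Presieve.ofArrows W k)) (ofArrows_mem_etTop W k fun z => ⟨z, hk z⟩) ?_
  intro T _ g hg T' _ l
  obtain ⟨T₀, a, _, ⟨z⟩, rfl⟩ := hg
  have := hE z
  exact bc_pullQ hG l (lkOf hf (a ≫ b z))

include hf in
theorem isQuasicoherent_pullQ : (pullQ f G hG).IsQuasicoherent :=
  isQuasicoherent_of_good fun E _ => good_pullQ hf hG E

theorem finitePresentation_ten {W : EtOver X} {E : EtOver Y.obj} (φ : Lk f W E)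
    [Module.FinitePresentation (Γo E) (sectModEt G E)] : Module.FinitePresentation (Γo W) (Ten G φ) :=
  inferInstanceAs (Module.FinitePresentation (TwP φ) (TwP φ ⊗[Γo E] sectModEt G E))

include hf in
theorem isFinitePresentation_pullQ
    (hfp : ∀ (V : EtOver Y.obj) [IsAffine V.obj.left.left], Module.FinitePresentation (Γo V) (sectModEt G V)) :
    (pullQ f G hG).IsFinitePresentation := by
  refine isFinitePresentation_of_good_of_finitePresentation (fun E _ => good_pullQ hf hG E) fun Z _ => ?_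
  choose E hE W hW k b hk using exists_affine_over_bc hf Z
  refine finitePresentation_of_local (Sieve.generate (Presieve.ofArrows W k))
    (ofArrows_mem_etTop W k fun z => ⟨z, hk z⟩) fun T _ g hg => ?_
  obtain ⟨T₀, a, _, ⟨z⟩, rfl⟩ := hg
  have := hE z
  have := hfp (E z)
  let φ := lkOf hf (a ≫ b z)
  have := finitePresentation_ten (G := G) φ
  let e₁ : Tw (a ≫ k z) ⊗[Γo Z] sectModEt (pullQ f G hG) Z ≃ₗ[Γo T] sectModEt (pullQ f G hG) T :=
    LinearEquiv.ofBijective (liftₗ (a ≫ k z) LinearMap.id) (good_pullQ hf hG Z (a ≫ k z))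
  exact Module.FinitePresentation.of_equiv
    (e₁.trans (LinearEquiv.ofBijective (evL hG φ) (evL_bijective hG φ))).symm

/-! ### The unit -/

include hG in
theorem exists_unit {E : EtOver Y.obj} (g : sectModEt G E) : ∃ s : Sect f G (EtOver.bcObj hf E),
    ∀ (T : EtOver X) [IsAffine T.obj.left.left] (a : T ⟶ EtOver.bcObj hf E) (E' : EtOver Y.obj)
      [IsAffine E'.obj.left.left] (φ' : Lk f T E'),
      Rel (lkOf hf a) φ' ((1 : TwP (lkOf hf a)) ⊗ₜ g) (s.val' T a E' φ') := by
  have hex : ∀ t : Test f (EtOver.bcObj hf E), ∃ x : Ten G t.φ,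
      Rel (lkOf hf t.a) t.φ ((1 : TwP (lkOf hf t.a)) ⊗ₜ g) x := fun t => by
    have := t.hW
    have := t.hE
    exact exists_rel hG _ _ _
  choose x hx using hex
  refine ⟨⟨x, fun T T' hT hT' a k E₁ E₂ hE₁ hE₂ φ₁ φ₂ => ?_⟩, fun T hT a E' hE' φ' => hx ⟨T, hT, a, E', hE', φ'⟩⟩
  have h₁ := (hx ⟨T, hT, a, E₁, hE₁, φ₁⟩).res k (lkOf_comp hf k a).symm (rfl : φ₁.pre k = _)
  rw [resT_tmul] at h₁
  have e : TwP.mk (lkOf hf (k ≫ a)) (γ k (TwP.out (1 : TwP (lkOf hf a)))) = 1 := map_one (γ k)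
  rw [e] at h₁
  exact h₁.symm.trans hG (hx ⟨T', hT', k ≫ a, E₂, hE₂, φ₂⟩)

/-- The unit on sections. -/
noncomputable def unitFam {E : EtOver Y.obj} (g : sectModEt G E) : Sect f G (EtOver.bcObj hf E) :=
  (exists_unit hf hG g).choose

theorem unitFam_spec {E : EtOver Y.obj} (g : sectModEt G E) (T : EtOver X) [IsAffine T.obj.left.left]
    (a : T ⟶ EtOver.bcObj hf E) (E' : EtOver Y.obj) [IsAffine E'.obj.left.left] (φ' : Lk f T E') :
    Rel (lkOf hf a) φ' ((1 : TwP (lkOf hf a)) ⊗ₜ g) ((unitFam hf hG g).val' T a E' φ') :=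
  (exists_unit hf hG g).choose_spec T a E' φ'

/-- The unit on sections, additively. -/
noncomputable def unitHom (E : EtOver Y.obj) : sectModEt G E →+ sectModEt ((pushModEt hf).obj (pullQ f G hG)) E :=
  AddMonoidHom.mk' (fun g => pushIn hf (ofSect hG (unitFam hf hG g))) fun g g' => Sect.ext' fun T _ a E' _ φ' => by
    refine rel_ext hG (unitFam_spec hf hG (g + g') T a E' φ') ?_
    rw [TensorProduct.tmul_add]
    exact (unitFam_spec hf hG g T a E' φ').add (unitFam_spec hf hG g' T a E' φ')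

theorem unitHom_smul (E : EtOver Y.obj) (r : Γo E) (g : sectModEt G E) :
    unitHom hf hG E (r • g) = r • unitHom hf hG E g := Sect.ext' fun T _ a E' _ φ' => by
  refine rel_ext hG (unitFam_spec hf hG (r • g) T a E' φ') ?_
  have h := (unitFam_spec hf hG g T a E' φ').smul (γ a (bγ hf E r))
  have e : (1 : TwP (lkOf hf a)) ⊗ₜ[Γo E] (r • g) = γ a (bγ hf E r) • ((1 : TwP (lkOf hf a)) ⊗ₜ[Γo E] g) := by
    rw [TensorProduct.tmul_smul, TensorProduct.smul_tmul', TensorProduct.smul_tmul']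
    congr 1
  rw [e]
  exact h

theorem unitHom_res {E E' : EtOver Y.obj} (h : E' ⟶ E) (g : sectModEt G E) :
    unitHom hf hG E' (res G h g) = res ((pushModEt hf).obj (pullQ f G hG)) h (unitHom hf hG E g) :=
  Sect.ext' fun T hT a E₁ hE₁ φ₁ => by
    refine rel_ext hG (unitFam_spec hf hG (res G h g) T a E₁ φ₁) ?_
    change Rel _ _ _ ((unitFam hf hG g).val' T (a ≫ EtOver.bcMap hf h) E₁ φ₁)
    have hh := unitFam_spec hf hG g T (a ≫ EtOver.bcMap hf h) E₁ φ₁
    refine Rel.trans hG ?_ hh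
    intro U hU k V hV ψ p q e e'
    rw [lkOf_bcMap] at e'
    have ep : ψ.post (p ≫ h) = ((lkOf hf a).post h).pre k := by rw [← Lk.post_post, e, Lk.pre_post]
    have key := rel_refl hG ψ ((1 : TwP ψ) ⊗ₜ res G (p ≫ h) g)
    have e₁ : chT p e (resT k rfl ((1 : TwP (lkOf hf a)) ⊗ₜ res G h g)) = (1 : TwP ψ) ⊗ₜ res G (p ≫ h) g := by
      rw [resT_tmul, chT_tmul, res_comp]
      congr 1
      exact map_one (γ k)
    rw [e₁]
    have e₂ : ∀ {φ' : Lk f T E} (eφ : ψ.post q = φ'.pre k),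
        chT q eφ (resT k rfl ((1 : TwP φ') ⊗ₜ g)) = (1 : TwP ψ) ⊗ₜ res G q g := fun {φ'} eφ => by
      rw [resT_tmul, chT_tmul]
      congr 1
      exact map_one (γ k)
    rw [e₂]
    have key := rel_refl' hG (ψ.post q) ((1 : TwP (ψ.post q)) ⊗ₜ g) U hU (𝟙 U) V hV ψ (p ≫ h) q
      ((ep.trans e'.symm).trans (Lk.pre_id _).symm) (Lk.pre_id _).symm
    rw [chT_resT_id, chT_resT_id, chT_tmul, chT_tmul] at key
    exact key

/-- The unit. -/
noncomputable def unitQ : G ⟶ (pushModEt hf).obj (pullQ f G hG) :=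
  ⟨PresheafOfModules.homMk
    { app := fun E => AddCommGrpCat.ofHom (unitHom hf hG E.unop)
      naturality := fun {E E'} h => AddCommGrpCat.hom_ext (AddMonoidHom.ext fun g => unitHom_res hf hG h.unop g) }
    fun E r g => unitHom_smul hf hG E.unop (ULift.down r) g⟩

theorem unitQ_app {E : EtOver Y.obj} (g : sectModEt G E) :
    appₗ (unitQ hf hG) E g = pushIn hf (ofSect hG (unitFam hf hG g)) := rfl

end Groth.Agent.QcohEt15.Pull
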